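import Cfsg.Agent.Lib.Characterizations.PSL2Spectrum.Involution
import Cfsg.Agent.Lib.Characterizations.BSWStructure
import Cfsg.Agent.S3282

/-!
# The Brauer–Suzuki–Wall configuration
-/

set_option autoImplicit false
set_option linter.unusedSectionVars false
set_option linter.style.haveILetI false

open CfsgLib.Involution.Dihedral

namespace CfsgLib.Characterizations.PSL2Spectrum

variable {G : Type*} [Group G] [Finite G]

theorem conj_or_third {u v : G} (hu : orderOf u = 2) (hv : orderOf v = 2) (K : Subgroup G)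
    (huK : u ∈ K) (hvK : v ∈ K) :
    (∃ k ∈ K, k * u * k⁻¹ = v) ∨ ∃ w ∈ K, orderOf w = 2 ∧ Commute w u ∧ Commute w v := by
  by_cases huv : u = v
  · exact Or.inl ⟨1, K.one_mem, by simp [huv]⟩
  have hinv := conj_mul_left hu hv
  have hd : u * v ∈ K := mul_mem huK hvK
  rcases Nat.even_or_odd' (orderOf (u * v)) with ⟨i, hi | hi⟩
  · have hi0 : i ≠ 0 := fun e => (orderOf_pos (u * v)).ne' (by rw [hi, e])
    have hw : orderOf ((u * v) ^ i) = 2 := by
      rw [orderOf_pow_of_dvd hi0 ⟨2, by rw [hi, mul_comm]⟩, hi]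
      exact Nat.div_eq_of_eq_mul_left (Nat.pos_of_ne_zero hi0) rfl
    have hwu : Commute ((u * v) ^ i) u := by
      have h := CfsgLib.Involution.Dihedral.conj_pow hinv i
      rw [inv_eq hw] at h
      exact (mul_inv_eq_iff_eq_mul.1 h).symm
    refine Or.inr ⟨_, K.pow_mem hd i, hw, hwu, ?_⟩
    have := hwu.mul_right ((Commute.refl (u * v)).pow_left i)
    rwa [← mul_assoc, mul_self hu, one_mul] at this
  · refine Or.inl ⟨(u * v) ^ i, K.pow_mem hd i, ?_⟩
    have h := conj_zpow_reflection hinv (i : ℤ)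
    rw [zpow_natCast] at h
    rw [h, show -(2 * (i : ℤ)) = 1 + (-1 : ℤ) * (orderOf (u * v) : ℤ) by rw [hi]; push_cast; ring,
      zpow_add, zpow_mul', zpow_natCast, pow_orderOf_eq_one, one_zpow, mul_one, zpow_one,
      ← mul_assoc, mul_self hu, one_mul]

namespace Cfg

variable {p f q a b : ℕ} {x t s g : G}

section
variable (c : Cfg p f q a b x t s g)
include c

/-- If all involutions of `K ⊓ C(t)` are conjugate to `t`, then so are all involutions of `K`. -/
theorem conj_of_local (K : Subgroup G) [K.Normal] (htK : t ∈ K)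
    (hloc : ∀ w ∈ K, w ∈ Subgroup.centralizer ({t} : Set G) → orderOf w = 2 →
      ∃ k : G, k * t * k⁻¹ = w)
    {u : G} (huK : u ∈ K) (hu : orderOf u = 2) : ∃ k : G, k * t * k⁻¹ = u := by
  rcases conj_or_third c.ord_t hu K htK huK with ⟨k, -, hk⟩ | ⟨w, hwK, hw, hwt, hwu⟩
  · exact ⟨k, hk⟩
  obtain ⟨k, hk⟩ := hloc w hwK (Subgroup.mem_centralizer_singleton_iff.2 hwt.eq) hw
  have hu' : k⁻¹ * u * k ∈ K := by
    simpa using Subgroup.Normal.conj_mem ‹K.Normal› u huK k⁻¹
  obtain ⟨l, hl⟩ := hloc _ hu' (Subgroup.mem_centralizer_singleton_iff.2 (by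
    have e : t = k⁻¹ * w * k := by rw [← hk]; group
    rw [e]
    calc k⁻¹ * u * k * (k⁻¹ * w * k) = k⁻¹ * (u * w) * k := by group
      _ = k⁻¹ * (w * u) * k := by rw [hwu.eq]
      _ = k⁻¹ * w * k * (k⁻¹ * u * k) := by group))
    (by rw [show k⁻¹ * u * k = k⁻¹ * u * k⁻¹⁻¹ by group, orderOf_conj, hu])
  exact ⟨k * l, by
    calc k * l * t * (k * l)⁻¹ = k * (l * t * l⁻¹) * k⁻¹ := by group
      _ = u := by rw [hl]; group⟩

/-- The subgroup `X` is a trivial intersection set on its inverted elements. -/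
theorem ti {z y : G} (hz : z ∈ Subgroup.zpowers x) (hz1 : z ≠ 1) (hzy : y⁻¹ * z * y ∈ Subgroup.zpowers x)
    (hinv : s * z * s⁻¹ = z⁻¹) : y ∈ Subgroup.centralizer ({t} : Set G) := by
  by_cases h2 : z * z = 1
  · have h2' : y⁻¹ * z * y * (y⁻¹ * z * y) = 1 := by
      rw [show y⁻¹ * z * y * (y⁻¹ * z * y) = y⁻¹ * (z * z) * y by group, h2]; group
    have ez := (c.unique_inv hz h2).resolve_left hz1
    rcases c.unique_inv hzy h2' with e | e
    · exact absurd (by calc z = y * (y⁻¹ * z * y) * y⁻¹ := by group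
                          _ = 1 := by rw [e]; group) hz1
    · rw [ez] at e
      rw [Subgroup.mem_centralizer_singleton_iff]
      calc y * t = y * (y⁻¹ * t * y) := by rw [e]
        _ = t * y := by group
  obtain ⟨r, hr, hrz⟩ := Nat.exists_prime_and_dvd (n := orderOf z)
    (fun e => hz1 (orderOf_eq_one_iff.1 e))
  have hra : r ∣ a := hrz.trans (c.card_X ▸ Subgroup.orderOf_dvd_natCard _ hz)
  set C := Subgroup.centralizer ({z} : Set G)
  have hXC : Subgroup.zpowers x ≤ C := fun u hu =>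
    Subgroup.mem_centralizer_singleton_iff.2 (c.comm_X hu hz).eq
  have hx' : y * x * y⁻¹ ∈ C := by
    rw [Subgroup.mem_centralizer_singleton_iff]
    calc y * x * y⁻¹ * z = y * (x * (y⁻¹ * z * y)) * y⁻¹ := by group
      _ = y * ((y⁻¹ * z * y) * x) * y⁻¹ := by rw [(c.comm_X (Subgroup.mem_zpowers x) hzy).eq]
      _ = z * (y * x * y⁻¹) := by group
  obtain ⟨m, hm⟩ := c.card_X ▸ Subgroup.card_dvd_of_le hXC
  have h1 : Nat.card C ∣ 2 * a := c.spec.cent_dvd_a hr hrz hra
  rw [hm, mul_comm 2 a] at h1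
  have hm2 : m ∣ 2 := Nat.dvd_of_mul_dvd_mul_left c.a_pos h1
  rcases (Nat.dvd_prime Nat.prime_two).1 hm2 with rfl | rfl
  · have hCX := Subgroup.eq_of_le_of_card_ge hXC (by rw [hm, mul_one, c.card_X])
    have ht' : y * t * y⁻¹ ∈ Subgroup.zpowers x := by
      rw [hCX, ← c.t_def, ← _root_.conj_pow]
      exact pow_mem hx' _
    rcases c.unique_inv ht' (by
      rw [show y * t * y⁻¹ * (y * t * y⁻¹) = y * (t * t) * y⁻¹ by group, c.tt]; group) with e | e
    · exact absurd (conj_eq_one_iff.1 e) (ne_one c.ord_t)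
    · exact Subgroup.mem_centralizer_singleton_iff.2 (mul_inv_eq_iff_eq_mul.1 e)
  · exfalso
    have hidx : ((Subgroup.zpowers x).subgroupOf C).index = 2 := by
      have h := Subgroup.card_mul_index ((Subgroup.zpowers x).subgroupOf C)
      rw [Nat.card_congr (Subgroup.subgroupOfEquivOfLe hXC).toEquiv, c.card_X, hm] at h
      exact Nat.eq_of_mul_eq_mul_left c.a_pos h
    have hn := Subgroup.normal_of_index_eq_two hidx
    have hle : C ≤ Subgroup.centralizer ({t} : Set G) := by
      intro u hu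
      have := hn.conj_mem ⟨t, hXC c.t_mem⟩ (Subgroup.mem_subgroupOf.2 c.t_mem) ⟨u, hu⟩
      rw [Subgroup.mem_subgroupOf] at this
      change u * t * u⁻¹ ∈ Subgroup.zpowers x at this
      rcases c.unique_inv this (by
        rw [show u * t * u⁻¹ * (u * t * u⁻¹) = u * (t * t) * u⁻¹ by group, c.tt]; group) with e | e
      · exact absurd (conj_eq_one_iff.1 e) (ne_one c.ord_t)
      · exact Subgroup.mem_centralizer_singleton_iff.2 (mul_inv_eq_iff_eq_mul.1 e)
    have hCH := Subgroup.eq_of_le_of_card_ge hle (by rw [c.card_H, hm, mul_comm])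
    have hs : s ∈ C := hCH ▸ c.s_mem
    rw [Subgroup.mem_centralizer_singleton_iff] at hs
    rw [hs, mul_inv_cancel_right] at hinv
    exact h2 (eq_inv_iff_mul_eq_one.1 hinv)

/-- An odd subgroup which is a centraliser in `K` of each of its elements has order `q`. -/
theorem identify {K : Subgroup G} [K.Normal] {m : ℕ} (hm : m ≤ 2) (hK : m * Nat.card K = Nat.card G)
    (htK : t ∈ K) (Q : Subgroup G) (hQK : Q ≤ K)
    (hcc : ∀ y ∈ Q, y ≠ 1 → K ⊓ Subgroup.centralizer ({y} : Set G) = Q) (hodd : Odd (Nat.card Q))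
    (heq : 2 * Nat.card K = Nat.card Q * (Nat.card Q + 1) * (Nat.card Q - 1)) :
    Nat.card Q = q ∧ m = 1 := by
  have := c.spec.two_le_a
  have := c.spec.three_le_b
  have hsum := c.spec.sum
  have hKpos : 0 < Nat.card K := Nat.card_pos
  have hn2 : 2 ≤ Nat.card Q := by
    by_contra hlt
    rw [show Nat.card Q - 1 = 0 by omega, mul_zero] at heq
    omega
  obtain ⟨r, hr, hrQ⟩ := Nat.exists_prime_and_dvd (n := Nat.card Q) (by omega)
  haveI := Fact.mk hr
  obtain ⟨⟨y, hyQ⟩, hy⟩ := exists_prime_orderOf_dvd_card' (G := Q) r hrQ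
  rw [Subgroup.orderOf_mk] at hy
  have hy1 : y ≠ 1 := fun e => hr.one_lt.ne (by rw [← hy, e, orderOf_one])
  have hQC : Nat.card Q ∣ Nat.card (Subgroup.centralizer ({y} : Set G)) :=
    Subgroup.card_dvd_of_le (hcc y hyQ hy1 ▸ inf_le_right)
  have hdvd : Nat.card Q ∣ b ∨ Nat.card Q ∣ q := by
    rcases c.spec.prime_cases hr (hrQ.trans (Subgroup.card_subgroup_dvd_card Q)) with ha | hb | rfl
    · exfalso
      have hr2 : r ≠ 2 := fun e => Nat.not_even_iff_odd.2 hodd (even_iff_two_dvd.2 (e ▸ hrQ))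
      have hrest : ¬ r ∣ 2 * q * b := by
        intro h
        rcases hr.dvd_mul.1 h with h | h
        · rcases hr.dvd_mul.1 h with h | h
          · exact hr2 ((Nat.prime_dvd_prime_iff_eq hr Nat.prime_two).1 h)
          · exact c.spec.not_a_q hr ha h
        · exact c.spec.not_a_b hr ha h
      have hfac : (Nat.card G).factorization r = a.factorization r := by
        rw [c.spec.card, show 2 * q * a * b = (2 * q * b) * a by ring,
          Nat.factorization_mul (fun h => hrest (by simp [h])) (by omega), Finsupp.add_apply,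
          Nat.factorization_eq_zero_of_not_dvd hrest, zero_add]
      have hd : a / r ^ a.factorization r ∣ a := Nat.div_dvd_of_dvd (Nat.ordProj_dvd a r)
      have hR : Nat.card (Subgroup.zpowers (x ^ (a / r ^ a.factorization r))) =
          r ^ (Nat.card G).factorization r := by
        rw [Nat.card_zpowers, orderOf_pow_of_dvd (Nat.ordCompl_pos r (by omega)).ne'
          (by rw [c.ord]; exact hd), c.ord, hfac, Nat.div_div_self (Nat.ordProj_dvd a r) (by omega)]
      have hP : IsPGroup r (Subgroup.zpowers y) :=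
        IsPGroup.of_card (n := 1) (by rw [Nat.card_zpowers, hy, pow_one])
      obtain ⟨P, hP'⟩ := hP.exists_le_sylow
      obtain ⟨k, hk⟩ := MulAction.exists_smul_eq G (Sylow.ofCard _ hR) P
      have hyP : y ∈ ((k • Sylow.ofCard _ hR : Sylow r G) : Subgroup G) :=
        hk ▸ hP' (Subgroup.mem_zpowers y)
      obtain ⟨w, hw, hwy⟩ := hyP
      have hwX : w ∈ Subgroup.zpowers x :=
        (Subgroup.zpowers_le.2 (Subgroup.npow_mem_zpowers x _)) hw
      have hmem : k * t * k⁻¹ ∈ Q := by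
        rw [← hcc y hyQ hy1]
        refine ⟨Subgroup.Normal.conj_mem ‹K.Normal› t htK k,
          Subgroup.mem_centralizer_singleton_iff.2 ?_⟩
        rw [← hwy]
        change k * t * k⁻¹ * (k * w * k⁻¹) = k * w * k⁻¹ * (k * t * k⁻¹)
        calc k * t * k⁻¹ * (k * w * k⁻¹) = k * (t * w) * k⁻¹ := by group
          _ = k * (w * t) * k⁻¹ := by rw [(c.comm_X c.t_mem hwX).eq]
          _ = _ := by group
      have h2 := Subgroup.orderOf_dvd_natCard Q hmem
      rw [orderOf_conj, c.ord_t] at h2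
      exact Nat.not_even_iff_odd.2 hodd (even_iff_two_dvd.2 h2)
    · exact Or.inl (hQC.trans (c.spec.cent_dvd_b hr (hy ▸ dvd_rfl) hb))
    · exact Or.inr (hQC.trans (c.spec.cent_dvd_q (hy ▸ dvd_rfl)))
  set n := Nat.card Q with hn
  have hfull : m * (n * ((n + 1) * (n - 1))) = q * ((q + 1) * (q - 1)) := by
    have e1 : (q + 1) * (q - 1) = 4 * (a * b) := by
      rcases c.spec.near with e | e <;> subst e <;> rw [hsum]
      · rw [show a + (a + 1) - 1 = 2 * a by omega]; ring
      · rw [show b + 1 + b - 1 = 2 * b by omega]; ring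
    rw [e1, ← mul_assoc n, ← heq]
    calc m * (2 * Nat.card K) = 2 * (m * Nat.card K) := by ring
      _ = _ := by rw [hK, c.spec.card]; ring
  have hm0 : m ≠ 0 := by
    rintro rfl
    rw [zero_mul] at hK
    exact Nat.card_pos.ne hK
  by_cases hnq : n = q
  · refine ⟨hnq, ?_⟩
    rw [hnq] at hfull
    have : 0 < q * ((q + 1) * (q - 1)) := by
      apply Nat.mul_pos (by omega) (Nat.mul_pos (by omega) (by omega))
    exact Nat.eq_of_mul_eq_mul_right this (hfull.trans (one_mul _).symm)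
  exfalso
  have hbound : 2 * n ≤ q + 1 ∧ n + 1 ≤ q := by
    have := c.spec.near
    rcases hdvd with h | h
    · have := Nat.le_of_dvd (by omega) h
      omega
    · obtain ⟨k, hk⟩ := h
      have hk2 : 2 ≤ k := by
        rcases Nat.lt_or_ge k 2 with h | h
        · interval_cases k <;> omega
        · exact h
      have := Nat.mul_le_mul_left n hk2
      omega
  have h1 : m * (n * ((n + 1) * (n - 1))) ≤ (q + 1) * (q * (n - 1)) := by
    rw [← mul_assoc]
    exact Nat.mul_le_mul ((Nat.mul_le_mul_right n hm).trans hbound.1)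
      (Nat.mul_le_mul_right _ hbound.2)
  have h2 : (q + 1) * (q * (n - 1)) < (q + 1) * (q * (q - 1)) :=
    Nat.mul_lt_mul_of_pos_left (Nat.mul_lt_mul_of_pos_left (by omega) (by omega)) (by omega)
  rw [hfull] at h1
  have : (q + 1) * (q * (q - 1)) = q * ((q + 1) * (q - 1)) := by ring
  omega

/-- The theorem of Brauer, Suzuki and Wall applied to `K`. -/
theorem bsw (K : Subgroup G) [K.Normal] {m : ℕ} (hm : m ≤ 2) (hKc : m * Nat.card K = Nat.card G)
    (htK : t ∈ K) (hsK : s ∈ K) (A : Subgroup G) (hAK : A ≤ K) (hAX : A ≤ Subgroup.zpowers x)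
    (htA : t ∈ A) (hinv : ∀ y ∈ A, s * y * s⁻¹ = y⁻¹)
    (hfix : ∀ y ∈ A, Commute y s → y = 1 ∨ y = t)
    (hKH : ∀ u ∈ K, u ∈ Subgroup.centralizer ({t} : Set G) → u ∈ A ∨ u * s ∈ A)
    (hconj : ∀ u ∈ K, orderOf u = 2 → ∃ k ∈ K, k * t * k⁻¹ = u) :
    m = 1 ∧ ∃ Q D : Subgroup K, Nat.card Q = q ∧
      2 * Nat.card K = Nat.card ↥Q * (Nat.card ↥Q + 1) * (Nat.card ↥Q - 1) ∧
      (∀ y ∈ Q, y ≠ 1 → Subgroup.centralizer ({y} : Set K) = Q) ∧
      IsMulCommutative ↥D ∧ 2 * Nat.card ↥D + 1 = Nat.card ↥Q ∧ Q ⊓ D = ⊥ ∧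
      Subgroup.normalizer (Q : Set K) = Q ⊔ D ∧
      ∀ X : Subgroup K, X ≤ D → X ≠ ⊥ →
        Subgroup.normalizer (X : Set K) = Subgroup.normalizer (D : Set K) ∧
        ∃ u : K, orderOf u = 2 ∧ u ∉ D ∧ (∀ d ∈ D, u * d * u⁻¹ = d⁻¹) ∧
          Subgroup.normalizer (D : Set K) = D ⊔ Subgroup.zpowers u := by
  set t' : K := ⟨t, htK⟩ with ht'
  set s' : K := ⟨s, hsK⟩ with hs'
  have hcomm : ∀ u v : A.subgroupOf K, u * v = v * u := fun u v =>
    Subtype.ext (Subtype.ext (c.comm_X (hAX (Subgroup.mem_subgroupOf.1 u.2))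
      (hAX (Subgroup.mem_subgroupOf.1 v.2))).eq)
  have hA2 : ∀ u : G, u ∈ A → u ∈ Subgroup.centralizer ({t} : Set G) := fun u hu => c.X_le (hAX hu)
  have hcen : ∀ u : K, u ∈ Subgroup.centralizer ({t'} : Set K) ↔
      (u : G) ∈ Subgroup.centralizer ({t} : Set G) := fun u => by
    rw [Subgroup.mem_centralizer_singleton_iff, Subgroup.mem_centralizer_singleton_iff, Subtype.ext_iff]
    rfl
  obtain ⟨Q, D, h1, h2, h3, h4, h5, h6, h7⟩ := Cfsg.Agent.S3282.result t'
    (by rw [ht', Subgroup.orderOf_mk, c.ord_t]) (A.subgroupOf K) ⟨⟨hcomm⟩⟩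
    (fun u hu => (hcen u).2 (hA2 _ (Subgroup.mem_subgroupOf.1 hu)))
    (Subgroup.mem_subgroupOf.2 htA) s' (by rw [hs', Subgroup.orderOf_mk, c.ord_s])
    ((hcen s').2 c.s_mem) (fun h => c.s_not_mem (hAX (Subgroup.mem_subgroupOf.1 h)))
    (by
      refine le_antisymm (sup_le ?_ ((Subgroup.zpowers_le).2 ((hcen s').2 c.s_mem))) ?_
      · exact fun u hu => (hcen u).2 (hA2 _ (Subgroup.mem_subgroupOf.1 hu))
      · intro u hu
        rcases hKH u u.2 ((hcen u).1 hu) with h | h
        · exact Subgroup.mem_sup_left (Subgroup.mem_subgroupOf.2 h)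
        · have hus : u * s' ∈ A.subgroupOf K := Subgroup.mem_subgroupOf.2 h
          rw [show u = u * s' * s'⁻¹ by group]
          exact Subgroup.mul_mem_sup hus (inv_mem (Subgroup.mem_zpowers s')))
    (by
      refine le_antisymm (fun u ⟨hu1, hu2⟩ => ?_) ((Subgroup.zpowers_le).2 ⟨Subgroup.mem_subgroupOf.2 htA,
        Subgroup.mem_centralizer_singleton_iff.2 (Subtype.ext c.comm.eq)⟩)
      rcases hfix u (Subgroup.mem_subgroupOf.1 hu1)
        (congrArg Subtype.val (Subgroup.mem_centralizer_singleton_iff.1 hu2)) with e | e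
      · rw [show u = 1 from Subtype.ext e]; exact one_mem _
      · rw [show u = t' from Subtype.ext e]; exact Subgroup.mem_zpowers _)
    (fun u hu => Subtype.ext (hinv u (Subgroup.mem_subgroupOf.1 hu)))
    (by
      intro y hy
      rw [Subgroup.eq_bot_iff_forall]
      rintro z ⟨hz, w, hw, hwz⟩
      by_contra hz1
      apply hy
      rw [hcen]
      refine c.ti (hAX (Subgroup.mem_subgroupOf.1 hz)) (fun e => hz1 (Subtype.ext e))
        (hAX ?_) (hinv _ (Subgroup.mem_subgroupOf.1 hz))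
      have e : (y : G)⁻¹ * z * y = w := by
        rw [← hwz]
        change (y : G)⁻¹ * ((y : G) * w * (y : G)⁻¹) * y = w
        group
      rw [e]
      exact Subgroup.mem_subgroupOf.1 hw)
    (by
      intro u v hu hv
      rw [← Subgroup.orderOf_coe] at hu hv
      obtain ⟨k, hk, e⟩ := hconj u u.2 hu
      obtain ⟨l, hl, e'⟩ := hconj v v.2 hv
      refine isConj_iff.2 ⟨⟨l * k⁻¹, mul_mem hl (inv_mem hk)⟩, Subtype.ext ?_⟩
      change l * k⁻¹ * (u : G) * (l * k⁻¹)⁻¹ = v
      rw [← e, ← e']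
      group)
  have hQG : Nat.card (Q.map K.subtype) = Nat.card Q :=
    Subgroup.card_map_of_injective K.subtype_injective
  obtain ⟨hQq, hm1⟩ := c.identify hm hKc htK (Q.map K.subtype) (Subgroup.map_subtype_le Q)
    (by
      rintro _ ⟨y, hy, rfl⟩ hy1
      rw [← h2 y hy (fun e => hy1 (by rw [e]; rfl))]
      ext u
      constructor
      · rintro ⟨huK, hu⟩
        exact ⟨⟨u, huK⟩, Subgroup.mem_centralizer_singleton_iff.2
          (Subtype.ext (Subgroup.mem_centralizer_singleton_iff.1 hu)), rfl⟩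
      · rintro ⟨v, hv, rfl⟩
        exact ⟨v.2, Subgroup.mem_centralizer_singleton_iff.2
          (congrArg Subtype.val (Subgroup.mem_centralizer_singleton_iff.1 hv))⟩)
    (by rw [hQG, ← h4]; exact ⟨_, rfl⟩) (by rw [hQG]; exact h1)
  exact ⟨hm1, Q, D, hQG ▸ hQq, h1, h2, h3, h4, h5, h6, h7⟩

end

end Cfg

end CfsgLib.Characterizations.PSL2Spectrum
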