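import Mathlib
import Cfsg.Agent.Lib.Solvable.Basic
import Cfsg.Agent.Lib.Involution.ZStar.Main
import Cfsg.Agent.Lib.OddOrder.Final.Main

/-!
# Groups with the order and the element orders of `PSL(2, q)`, `q` odd: components

Here `q = p ^ f = a + b`, where `a` is the even and `b` the odd one of `(q ± 1) / 2`.
-/

set_option autoImplicit false
set_option linter.unusedSectionVars false
set_option linter.style.haveILetI false

namespace CfsgLib.Characterizations.PSL2Spectrum

variable {G : Type*} [Group G] [Finite G]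

/-- A subgroup acting freely on the non-trivial elements of a subgroup it normalises. -/
theorem card_dvd_of_free (D R : Subgroup G)
    (hn : ∀ d ∈ D, ∀ x ∈ R, d * x * d⁻¹ ∈ R)
    (hfree : ∀ d ∈ D, ∀ x ∈ R, d ≠ 1 → x ≠ 1 → d * x * d⁻¹ ≠ x) :
    Nat.card D ∣ Nat.card R - 1 := by
  classical
  letI : MulAction D {x : G // x ∈ R ∧ x ≠ 1} :=
    { smul := fun d x => ⟨d.1 * x.1 * d.1⁻¹, hn _ d.2 _ x.2.1, fun h => x.2.2 (by
        calc x.1 = d.1⁻¹ * (d.1 * x.1 * d.1⁻¹) * d.1 := by group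
          _ = 1 := by rw [h]; group)⟩
      one_smul := fun x => Subtype.ext (by
        change (1 : G) * x.1 * 1⁻¹ = x.1
        group)
      mul_smul := fun d e x => Subtype.ext (by
        change d.1 * e.1 * x.1 * (d.1 * e.1)⁻¹ = d.1 * (e.1 * x.1 * e.1⁻¹) * d.1⁻¹
        group) }
  have hst : ∀ x : {x : G // x ∈ R ∧ x ≠ 1}, MulAction.stabilizer D x = ⊥ := by
    intro x
    rw [Subgroup.eq_bot_iff_forall]
    intro d hd
    by_contra hne
    exact hfree _ d.2 _ x.2.1 (fun h => hne (Subtype.ext h)) x.2.2 (congrArg Subtype.val hd)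
  have h2 : Nat.card {x : G // x ∈ R ∧ x ≠ 1} = Nat.card R - 1 := by
    have e : ∀ (s : Set G), Nat.card {x : G // x ∈ s} = s.ncard := fun s =>
      Nat.card_coe_set_eq s
    rw [show Nat.card {x : G // x ∈ R ∧ x ≠ 1} = ((R : Set G) \ {1}).ncard from
      (Nat.card_congr (Equiv.subtypeEquivRight fun x => by simp)).trans (e ((R : Set G) \ {1})),
      Set.ncard_diff_singleton_of_mem R.one_mem]
    rfl
  refine h2 ▸ ?_
  rw [Nat.card_congr (MulAction.selfEquivSigmaOrbitsQuotientStabilizer D {x : G // x ∈ R ∧ x ≠ 1})]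
  have : Fintype (MulAction.orbitRel.Quotient D {x : G // x ∈ R ∧ x ≠ 1}) := Fintype.ofFinite _
  rw [Nat.card_sigma]
  refine Finset.dvd_sum fun ω _ => ?_
  rw [hst]
  exact (Nat.card_congr (QuotientGroup.quotientBot (G := D)).toEquiv).symm.dvd

variable (G) in
/-- The hypotheses. -/
structure Spec (p f q a b : ℕ) : Prop where
  prime : p.Prime
  pow : q = p ^ f
  sum : q = a + b
  near : a + 1 = b ∨ b + 1 = a
  even : Even a
  odd : Odd b
  five : 5 ≤ q
  card : Nat.card G = 2 * q * a * b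
  orders : ∀ m : ℕ, (∃ x : G, orderOf x = m) ↔ m ∣ p ∨ m ∣ a ∨ m ∣ b

namespace Spec

variable {p f q a b : ℕ}

section
variable (h : Spec G p f q a b)
include h

theorem two_le_a : 2 ≤ a := by
  obtain ⟨k, hk⟩ := h.even
  have := h.sum; have := h.five; have := h.near
  omega

theorem three_le_b : 3 ≤ b := by
  obtain ⟨k, hk⟩ := h.odd
  have := h.sum; have := h.five; have := h.near
  omega

theorem cop_ab : a.Coprime b := by
  rcases h.near with e | e <;> subst e <;> simp [Nat.coprime_comm]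

theorem cop_qa : q.Coprime a := by
  rw [h.sum]; exact Nat.coprime_self_add_left.2 h.cop_ab.symm

theorem cop_qb : q.Coprime b := by
  rw [h.sum]; exact Nat.coprime_add_self_left.2 h.cop_ab

theorem odd_q : Odd q := by rw [h.sum]; exact Even.add_odd h.even h.odd

theorem f_ne : f ≠ 0 := by
  rintro rfl
  have := h.five
  rw [h.pow] at this; simp at this

theorem p_dvd_q : p ∣ q := h.pow ▸ dvd_pow_self p h.f_ne

theorem p_ne_two : p ≠ 2 := by
  rintro rfl
  exact (Nat.not_even_iff_odd.2 h.odd_q) (even_iff_two_dvd.2 h.p_dvd_q)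

/-- The three components. -/
theorem prime_cases {r : ℕ} (hr : r.Prime) (hd : r ∣ Nat.card G) : r ∣ a ∨ r ∣ b ∨ r = p := by
  rw [h.card] at hd
  rcases hr.dvd_mul.1 hd with hd | hd
  · rcases hr.dvd_mul.1 hd with hd | hd
    · rcases hr.dvd_mul.1 hd with hd | hd
      · exact Or.inl (hd.trans h.even.two_dvd)
      · exact Or.inr (Or.inr ((Nat.prime_dvd_prime_iff_eq hr h.prime).1
          (hr.dvd_of_dvd_pow (h.pow ▸ hd))))
    · exact Or.inl hd
  · exact Or.inr (Or.inl hd)

theorem not_a_b {r : ℕ} (hr : r.Prime) (ha : r ∣ a) : ¬ r ∣ b := fun hb =>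
  hr.not_dvd_one (h.cop_ab ▸ Nat.dvd_gcd ha hb)

theorem not_a_q {r : ℕ} (hr : r.Prime) (ha : r ∣ a) : ¬ r ∣ q := fun hb =>
  hr.not_dvd_one (h.cop_qa ▸ Nat.dvd_gcd hb ha)

theorem not_b_q {r : ℕ} (hr : r.Prime) (ha : r ∣ b) : ¬ r ∣ q := fun hb =>
  hr.not_dvd_one (h.cop_qb ▸ Nat.dvd_gcd hb ha)

theorem order_cases (x : G) : orderOf x ∣ p ∨ orderOf x ∣ a ∨ orderOf x ∣ b :=
  (h.orders _).1 ⟨x, rfl⟩

theorem dvd_a_of {x : G} {r : ℕ} (hr : r.Prime) (hx : r ∣ orderOf x) (ha : r ∣ a) :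
    orderOf x ∣ a := by
  rcases h.order_cases x with e | e | e
  · exact absurd ((hx.trans e).trans h.p_dvd_q) (h.not_a_q hr ha)
  · exact e
  · exact absurd (hx.trans e) (h.not_a_b hr ha)

theorem dvd_b_of {x : G} {r : ℕ} (hr : r.Prime) (hx : r ∣ orderOf x) (ha : r ∣ b) :
    orderOf x ∣ b := by
  rcases h.order_cases x with e | e | e
  · exact absurd ((hx.trans e).trans h.p_dvd_q) (h.not_b_q hr ha)
  · exact absurd ha (h.not_a_b hr (hx.trans e))
  · exact e

theorem dvd_p_of {x : G} (hx : p ∣ orderOf x) : orderOf x ∣ p := by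
  rcases h.order_cases x with e | e | e
  · exact e
  · exact absurd h.p_dvd_q (h.not_a_q h.prime (hx.trans e))
  · exact absurd h.p_dvd_q (h.not_b_q h.prime (hx.trans e))

/-- Commuting elements of distinct prime orders give an element of the product order. -/
theorem same {x y : G} (hc : Commute x y) {r s : ℕ} (hr : r.Prime) (hs : s.Prime) (hne : r ≠ s)
    (hx : r ∣ orderOf x) (hy : s ∣ orderOf y) :
    (r * s ∣ a) ∨ (r * s ∣ b) := by
  obtain ⟨i, hi⟩ := hx
  obtain ⟨j, hj⟩ := hy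
  have hi0 : i ≠ 0 := fun e => (orderOf_pos x).ne' (by rw [hi, e, mul_zero])
  have hj0 : j ≠ 0 := fun e => (orderOf_pos y).ne' (by rw [hj, e, mul_zero])
  have h1 : orderOf (x ^ i) = r := by
    rw [orderOf_pow_of_dvd hi0 ⟨r, by rw [hi, mul_comm]⟩, hi, Nat.mul_div_cancel _ (Nat.pos_of_ne_zero hi0)]
  have h2 : orderOf (y ^ j) = s := by
    rw [orderOf_pow_of_dvd hj0 ⟨s, by rw [hj, mul_comm]⟩, hj, Nat.mul_div_cancel _ (Nat.pos_of_ne_zero hj0)]
  have h3 : orderOf (x ^ i * y ^ j) = r * s := by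
    rw [(hc.pow_pow i j).orderOf_mul_eq_mul_orderOf_of_coprime
      (h1 ▸ h2 ▸ (Nat.coprime_primes hr hs).2 hne), h1, h2]
  rcases (h.orders (r * s)).1 ⟨_, h3⟩ with e | e | e
  · exfalso
    have e1 := (Nat.prime_dvd_prime_iff_eq hr h.prime).1 (dvd_of_mul_right_dvd e)
    have e2 := (Nat.prime_dvd_prime_iff_eq hs h.prime).1 (dvd_of_mul_left_dvd e)
    exact hne (e1.trans e2.symm)
  · exact Or.inl e
  · exact Or.inr e

theorem cent_prime {x : G} {r : ℕ} (hr : r.Prime) (hx : r ∣ orderOf x) {s : ℕ} (hs : s.Prime)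
    (hd : s ∣ Nat.card (Subgroup.centralizer ({x} : Set G))) :
    s = r ∨ (r * s ∣ a) ∨ (r * s ∣ b) := by
  by_cases hne : r = s
  · exact Or.inl hne.symm
  haveI := Fact.mk hs
  obtain ⟨y, hy⟩ := exists_prime_orderOf_dvd_card' (G := Subgroup.centralizer ({x} : Set G)) s hd
  refine Or.inr (h.same (x := x) (y := y) ?_ hr hs hne hx (by rw [Subgroup.orderOf_coe, hy]))
  exact (Subgroup.mem_centralizer_singleton_iff.1 y.2).symm

theorem cent_dvd_a {x : G} {r : ℕ} (hr : r.Prime) (hx : r ∣ orderOf x) (ha : r ∣ a) :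
    Nat.card (Subgroup.centralizer ({x} : Set G)) ∣ 2 * a := by
  have hd : Nat.card (Subgroup.centralizer ({x} : Set G)) ∣ (2 * a) * (q * b) := by
    rw [show 2 * a * (q * b) = 2 * q * a * b by ring, ← h.card]
    exact Subgroup.card_subgroup_dvd_card _
  refine Nat.Coprime.dvd_of_dvd_mul_right (Nat.coprime_of_dvd fun s hs h1 h2 => ?_) hd
  have hsa : s ∣ a := by
    rcases h.cent_prime hr hx hs h1 with rfl | e | e
    · exact ha
    · exact dvd_of_mul_left_dvd e
    · exact absurd (dvd_of_mul_right_dvd e) (h.not_a_b hr ha)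
  rcases hs.dvd_mul.1 h2 with e | e
  · exact h.not_a_q hs hsa e
  · exact h.not_a_b hs hsa e

theorem cent_dvd_b {x : G} {r : ℕ} (hr : r.Prime) (hx : r ∣ orderOf x) (ha : r ∣ b) :
    Nat.card (Subgroup.centralizer ({x} : Set G)) ∣ b := by
  have hd : Nat.card (Subgroup.centralizer ({x} : Set G)) ∣ b * (2 * q * a) := by
    rw [show b * (2 * q * a) = 2 * q * a * b by ring, ← h.card]
    exact Subgroup.card_subgroup_dvd_card _
  refine Nat.Coprime.dvd_of_dvd_mul_right (Nat.coprime_of_dvd fun s hs h1 h2 => ?_) hd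
  have hsa : s ∣ b := by
    rcases h.cent_prime hr hx hs h1 with rfl | e | e
    · exact ha
    · exact absurd ha (h.not_a_b hr (dvd_of_mul_right_dvd e))
    · exact dvd_of_mul_left_dvd e
  rcases hs.dvd_mul.1 h2 with e | e
  · rcases hs.dvd_mul.1 e with e | e
    · exact h.not_a_b hs (e.trans h.even.two_dvd) hsa
    · exact h.not_b_q hs hsa e
  · exact h.not_a_b hs e hsa

theorem cent_dvd_q {x : G} (hx : p ∣ orderOf x) :
    Nat.card (Subgroup.centralizer ({x} : Set G)) ∣ q := by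
  have hd : Nat.card (Subgroup.centralizer ({x} : Set G)) ∣ q * (2 * a * b) := by
    rw [show q * (2 * a * b) = 2 * q * a * b by ring, ← h.card]
    exact Subgroup.card_subgroup_dvd_card _
  refine Nat.Coprime.dvd_of_dvd_mul_right (Nat.coprime_of_dvd fun s hs h1 h2 => ?_) hd
  rcases h.cent_prime h.prime hx hs h1 with rfl | e | e
  · rcases hs.dvd_mul.1 h2 with e | e
    · rcases hs.dvd_mul.1 e with e | e
      · exact h.not_a_q hs (e.trans h.even.two_dvd) h.p_dvd_q
      · exact h.not_a_q hs e h.p_dvd_q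
    · exact h.not_b_q hs e h.p_dvd_q
  · exact h.not_a_q h.prime (dvd_of_mul_right_dvd e) h.p_dvd_q
  · exact h.not_b_q h.prime (dvd_of_mul_right_dvd e) h.p_dvd_q

theorem exists_order_a : ∃ x : G, orderOf x = a := (h.orders a).2 (Or.inr (Or.inl dvd_rfl))

theorem exists_order_b : ∃ x : G, orderOf x = b := (h.orders b).2 (Or.inr (Or.inr dvd_rfl))

/-- No element of one component centralises one of another. -/
theorem free_a {u x : G} (hu : orderOf u ∣ a) (hu1 : u ≠ 1) (hc : Commute u x) (hx : x ≠ 1) :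
    ∀ r : ℕ, r.Prime → r ∣ orderOf x → r ∣ a := by
  obtain ⟨s, hs, hsu⟩ := Nat.exists_prime_and_dvd (fun e => hu1 (orderOf_eq_one_iff.1 e))
  intro r hr hrx
  by_cases e : s = r
  · exact e ▸ hsu.trans hu
  rcases h.same hc hs hr e hsu hrx with k | k
  · exact dvd_of_mul_left_dvd k
  · exact absurd (dvd_of_mul_right_dvd k) (h.not_a_b hs (hsu.trans hu))

theorem not_normal_pgroup (R : Subgroup G) [hR : R.Normal] {r : ℕ} (hr : r.Prime)
    (hp : IsPGroup r R) : R = ⊥ := by
  haveI := Fact.mk hr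
  by_contra hne
  obtain ⟨n, hn⟩ := (IsPGroup.iff_card).1 hp
  have hn0 : n ≠ 0 := fun e => hne (Subgroup.card_eq_one.1 (by rw [hn, e, pow_zero]))
  have hrG : r ∣ Nat.card G :=
    (dvd_pow_self r hn0).trans (hn ▸ Subgroup.card_subgroup_dvd_card R)
  have hgood : ∀ D : Subgroup G, (Nat.card D).Coprime r →
      (∀ d ∈ D, d ≠ 1 → ∀ x ∈ R, x ≠ 1 → ¬ Commute d x) → Nat.card D ∣ Nat.card R - 1 :=
    fun D _ hf => card_dvd_of_free D R (fun d _ x hx => hR.conj_mem x hx d)
      fun d hd x hx hd1 hx1 e => hf d hd hd1 x hx hx1 (mul_inv_eq_iff_eq_mul.1 e)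
  have hfree : ∀ (D : Subgroup G) (m : ℕ), Nat.card D = m → (∀ s : ℕ, s.Prime → s ∣ m →
      ¬ (r * s ∣ a) ∧ ¬ (r * s ∣ b) ∧ r ≠ s) → m ∣ Nat.card R - 1 := by
    intro D m hm hs
    subst hm
    refine hgood D ?_ ?_
    · exact Nat.coprime_of_dvd fun s h1 h2 h3 =>
        (hs s h1 h2).2.2 ((Nat.prime_dvd_prime_iff_eq h1 hr).1 h3).symm
    · intro d hd hd1 x hx hx1 hc
      obtain ⟨s, hsp, hsd⟩ := Nat.exists_prime_and_dvd (fun e => hd1 (orderOf_eq_one_iff.1 e))
      obtain ⟨k, hk⟩ := (IsPGroup.iff_orderOf.1 hp) ⟨x, hx⟩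
      rw [← Subgroup.orderOf_coe] at hk
      have hk0 : k ≠ 0 := fun e => hx1 (orderOf_eq_one_iff.1 (by simpa [e] using hk))
      have hsD : s ∣ Nat.card D := hsd.trans (Subgroup.orderOf_dvd_natCard D hd)
      obtain ⟨h1, h2, h3⟩ := hs s hsp hsD
      rcases h.same hc.symm hr hsp h3 (hk ▸ dvd_pow_self r hk0) hsd with e | e
      · exact h1 e
      · exact h2 e
  haveI := Fact.mk h.prime
  obtain ⟨P, hP⟩ := Sylow.exists_subgroup_card_pow_prime (G := G) p (n := f)
    (by rw [← h.pow, h.card]; exact ⟨2 * a * b, by ring⟩)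
  obtain ⟨x, hx⟩ := h.exists_order_a
  obtain ⟨y, hy⟩ := h.exists_order_b
  rw [← h.pow] at hP
  have hX : Nat.card (Subgroup.zpowers x) = a := by rw [Nat.card_zpowers, hx]
  have hY : Nat.card (Subgroup.zpowers y) = b := by rw [Nat.card_zpowers, hy]
  have hd : Nat.card R ∣ 2 * q * a * b := h.card ▸ Subgroup.card_subgroup_dvd_card R
  have hco : ∀ m : ℕ, ¬ r ∣ m → (Nat.card R).Coprime m := fun m hm => by
    rw [hn]; exact Nat.Coprime.pow_left _ ((Nat.Prime.coprime_iff_not_dvd hr).2 hm)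
  have h1R : 1 < Nat.card R := by
    rw [hn]; exact Nat.one_lt_pow hn0 hr.one_lt
  have := h.two_le_a; have := h.three_le_b; have hsum := h.sum; have hnear := h.near
  rcases h.prime_cases hr hrG with ha | hb | rfl
  · -- `r ∣ a`
    have hle : Nat.card R ∣ 2 * a := by
      refine Nat.Coprime.dvd_of_dvd_mul_right (hco (q * b) fun e => ?_)
        (show Nat.card R ∣ 2 * a * (q * b) by rwa [show 2 * a * (q * b) = 2 * q * a * b by ring])
      rcases hr.dvd_mul.1 e with e | e
      · exact h.not_a_q hr ha e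
      · exact h.not_a_b hr ha e
    have d1 := hfree P q hP fun s hs hsq => ⟨fun e => h.not_a_q hs (dvd_of_mul_left_dvd e) hsq,
      fun e => h.not_a_b hr ha (dvd_of_mul_right_dvd e), fun e => h.not_a_q hr ha (e ▸ hsq)⟩
    have d2 := hfree _ b hY fun s hs hsb => ⟨fun e => h.not_a_b hs (dvd_of_mul_left_dvd e) hsb,
      fun e => h.not_a_b hr ha (dvd_of_mul_right_dvd e), fun e => h.not_a_b hr ha (e ▸ hsb)⟩
    have h3 := Nat.le_of_dvd (by omega) (h.cop_qb.mul_dvd_of_dvd_of_dvd d1 d2)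
    have h4 := Nat.le_of_dvd (by omega) hle
    have h5 : q * 3 ≤ q * b := Nat.mul_le_mul_left _ h.three_le_b
    omega
  · -- `r ∣ b`
    have hle : Nat.card R ∣ b := by
      refine Nat.Coprime.dvd_of_dvd_mul_right (hco (2 * q * a) fun e => ?_)
        (show Nat.card R ∣ b * (2 * q * a) by rwa [show b * (2 * q * a) = 2 * q * a * b by ring])
      rcases hr.dvd_mul.1 e with e | e
      · rcases hr.dvd_mul.1 e with e | e
        · exact h.not_a_b hr (e.trans h.even.two_dvd) hb
        · exact h.not_b_q hr hb e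
      · exact h.not_a_b hr e hb
    have d1 := hfree P q hP fun s hs hsq => ⟨fun e => h.not_a_b hr (dvd_of_mul_right_dvd e) hb,
      fun e => h.not_b_q hs (dvd_of_mul_left_dvd e) hsq, fun e => h.not_b_q hr hb (e ▸ hsq)⟩
    have h3 := Nat.le_of_dvd (by omega) d1
    have h4 := Nat.le_of_dvd (by omega) hle
    omega
  · -- `r = p`
    have hle : Nat.card R ∣ q := by
      refine Nat.Coprime.dvd_of_dvd_mul_right (hco (2 * a * b) fun e => ?_)
        (show Nat.card R ∣ q * (2 * a * b) by rwa [show q * (2 * a * b) = 2 * q * a * b by ring])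
      rcases hr.dvd_mul.1 e with e | e
      · rcases hr.dvd_mul.1 e with e | e
        · exact h.not_a_q hr (e.trans h.even.two_dvd) h.p_dvd_q
        · exact h.not_a_q hr e h.p_dvd_q
      · exact h.not_b_q hr e h.p_dvd_q
    have d1 := hfree _ a hX fun s hs hsa => ⟨fun e => h.not_a_q hr (dvd_of_mul_right_dvd e) h.p_dvd_q,
      fun e => h.not_b_q hr (dvd_of_mul_right_dvd e) h.p_dvd_q,
      fun e => h.not_a_q hs hsa (e ▸ h.p_dvd_q)⟩
    have d2 := hfree _ b hY fun s hs hsa => ⟨fun e => h.not_a_q hr (dvd_of_mul_right_dvd e) h.p_dvd_q,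
      fun e => h.not_b_q hr (dvd_of_mul_right_dvd e) h.p_dvd_q,
      fun e => h.not_b_q hs hsa (e ▸ h.p_dvd_q)⟩
    have h3 := Nat.le_of_dvd (by omega) (h.cop_ab.mul_dvd_of_dvd_of_dvd d1 d2)
    have h4 := Nat.le_of_dvd (by omega) hle
    have h5 : a + b ≤ a * b := Nat.add_le_mul h.two_le_a (by omega)
    omega

end

universe u

theorem not_normal_solvable {G : Type u} [Group G] [Finite G] {p f q a b : ℕ}
    (h : Spec G p f q a b) (N : Subgroup G) [N.Normal] (hs : Group.IsSolvable N) : N = ⊥ := by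
  by_contra hne
  obtain ⟨M, hMn, hM, hMN, hmin⟩ := CfsgLib.Solvable.Basic.exists_minimal_normal_le hne
  haveI := hMn
  haveI : Group.IsSolvable M :=
    Group.isSolvable_of_isSolvable_injective (f := Subgroup.inclusion hMN) (Subgroup.inclusion_injective hMN)
  obtain ⟨-, r, hr, -, hp⟩ := CfsgLib.Solvable.Basic.minimal_normal_solvable M hM hmin
  exact hM (h.not_normal_pgroup M hr hp)

theorem oddCore_eq_bot {G : Type u} [Group G] [Finite G] {p f q a b : ℕ}
    (h : Spec G p f q a b) : Cfsg.oddCore G = ⊥ := by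
  haveI : (Cfsg.oddCore G).Normal := CfsgLib.Involution.ZStar.oddCore_normal
  exact h.not_normal_solvable _
    (CfsgLib.OddOrder.Final.oddSolvable _ CfsgLib.Involution.ZStar.odd_card_oddCore)

/-- An involution does not fix all its commuting conjugates. -/
theorem exists_conj {G : Type u} [Group G] [Finite G] {p f q a b : ℕ}
    (h : Spec G p f q a b) {t : G} (ht : orderOf t = 2) :
    ∃ g : G, Commute t (g * t * g⁻¹) ∧ g * t * g⁻¹ ≠ t := by
  by_contra hno
  push Not at hno
  have hc : ∀ g : G, t * g * t⁻¹ * g⁻¹ = 1 := fun g =>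
    Subgroup.mem_bot.1 (h.oddCore_eq_bot ▸ CfsgLib.Involution.ZStar.comm_mem_oddCore ⟨ht, hno⟩ g)
  have htop : Subgroup.centralizer ({t} : Set G) = ⊤ := by
    rw [eq_top_iff]
    intro g _
    rw [Subgroup.mem_centralizer_singleton_iff]
    have := mul_inv_eq_one.1 (hc g)
    calc g * t = (t * g * t⁻¹) * t := by rw [this]
      _ = t * g := by group
  have h1 := h.cent_dvd_a Nat.prime_two ht.symm.dvd h.even.two_dvd
  rw [htop, Subgroup.card_top, h.card] at h1
  have h2 := Nat.le_of_dvd (by have := h.two_le_a; omega) h1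
  have h3 : 2 * 5 * a * 3 ≤ 2 * q * a * b :=
    Nat.mul_le_mul (Nat.mul_le_mul_right _ (Nat.mul_le_mul_left _ h.five)) h.three_le_b
  have := h.two_le_a
  omega

end Spec

end CfsgLib.Characterizations.PSL2Spectrum
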