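import Cfsg.Agent.Lib.Characterizations.PSL2Spectrum.BSW

/-!
# `C(t)` is dihedral and all involutions are conjugate, unless it is abelian
-/

set_option autoImplicit false
set_option linter.unusedSectionVars false
set_option linter.style.haveILetI false

open CfsgLib.Involution.Dihedral

namespace CfsgLib.Characterizations.PSL2Spectrum

variable {G : Type*} [Group G] [Finite G]

namespace Cfg

variable {p f q a b : ℕ} {x t s g : G}

section
variable (c : Cfg p f q a b x t s g)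
include c

theorem sigma {e : G} (he : e ∈ Subgroup.zpowers x) (hσ : s * x * s⁻¹ = x⁻¹ * e) (i : ℤ) :
    s * x ^ i * s⁻¹ = x ^ (-i) * e ^ i := by
  rw [← MulAut.conj_apply, map_zpow, MulAut.conj_apply, hσ,
    ((c.comm_X (Subgroup.mem_zpowers x) he).inv_left).mul_zpow, inv_zpow, zpow_neg]

theorem zpow_two_mul {e : G} (he : e * e = 1) (j : ℤ) : e ^ (2 * j) = 1 := by
  rw [zpow_mul, zpow_ofNat, pow_two, he, one_zpow]

/-- Conjugating `s` by `x ^ j`. -/
theorem conj_s {e : G} (he : e ∈ Subgroup.zpowers x) (he2 : e * e = 1)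
    (hσ : s * x * s⁻¹ = x⁻¹ * e) (j : ℤ) :
    x ^ j * s * (x ^ j)⁻¹ = x ^ (2 * j) * e ^ j * s := by
  have h := c.sigma he hσ (-j)
  rw [neg_neg] at h
  have he' : e ^ (-j) = e ^ j := by
    rw [zpow_neg, inv_eq_iff_mul_eq_one, ← zpow_add, ← two_mul, c.zpow_two_mul he2]
  rw [he'] at h
  calc x ^ j * s * (x ^ j)⁻¹ = x ^ j * (s * x ^ (-j) * s⁻¹) * s := by group
    _ = x ^ (2 * j) * e ^ j * s := by rw [h, ← mul_assoc, ← zpow_add, two_mul]

/-- The parity of the exponent is a homomorphism on the centraliser. -/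
theorem exists_sign (h4 : 4 ∣ a) {e : G} (he : e ∈ Subgroup.zpowers x) (he2 : e * e = 1)
    (hσ : s * x * s⁻¹ = x⁻¹ * e) :
    ∃ ψ : Subgroup.centralizer ({t} : Set G) →* ℤˣ, ∀ (u : Subgroup.centralizer ({t} : Set G)) (i : ℤ),
      ((u : G) = x ^ i ∨ (u : G) = x ^ i * s) → ψ u = if Even i then 1 else -1 := by
  classical
  obtain ⟨kk, hkk⟩ := h4
  have hhalf : a / 2 = 2 * kk := by omega
  have hpar : ∀ {i j : ℤ}, x ^ i = x ^ j → (Even i ↔ Even j) := by
    intro i j hij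
    have h1 : x ^ (i - j) = 1 := by rw [zpow_sub, hij, mul_inv_cancel]
    rw [← orderOf_dvd_iff_zpow_eq_one, c.ord] at h1
    exact Int.even_sub.1 (c.dvd_two h1)
  have hnotX : ∀ {i j : ℤ}, x ^ i ≠ x ^ j * s := by
    intro i j h
    refine c.s_not_mem ⟨-j + i, ?_⟩
    simp only
    rw [zpow_add, h, ← mul_assoc, ← zpow_add, neg_add_cancel, zpow_zero, one_mul]
  have hs : ∀ i : ℤ, s * x ^ i = x ^ (-i) * e ^ i * s := fun i => by
    rw [← c.sigma he hσ i]; group
  obtain ⟨l, hl⟩ : ∃ l : ℤ, e = x ^ (2 * l) := by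
    rcases c.unique_inv he he2 with rfl | rfl
    · exact ⟨0, by simp⟩
    · exact ⟨kk, by rw [← c.t_def, hhalf, ← zpow_natCast]; push_cast; rfl⟩
  -- the homomorphism of the centraliser
  set H := Subgroup.centralizer ({t} : Set G)
  let M : Subgroup H :=
    { carrier := {u | ∃ i : ℤ, Even i ∧ ((u : G) = x ^ i ∨ (u : G) = x ^ i * s)}
      one_mem' := ⟨0, Even.zero, Or.inl (by simp)⟩
      mul_mem' := by
        rintro u v ⟨i, hi, hu⟩ ⟨j, hj, hv⟩
        obtain ⟨j', rfl⟩ := hj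
        rcases hu with hu | hu <;> rcases hv with hv | hv
        · exact ⟨i + (j' + j'), hi.add ⟨j', rfl⟩, Or.inl (by rw [Subgroup.coe_mul, hu, hv, zpow_add x i])⟩
        · exact ⟨i + (j' + j'), hi.add ⟨j', rfl⟩,
            Or.inr (by rw [Subgroup.coe_mul, hu, hv, zpow_add x i, mul_assoc])⟩
        · refine ⟨i + -(j' + j'), hi.add (Even.neg ⟨j', rfl⟩), Or.inr ?_⟩
          rw [Subgroup.coe_mul, hu, hv, mul_assoc, hs, ← two_mul, c.zpow_two_mul he2, mul_one,
            ← mul_assoc, ← zpow_add]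
        · refine ⟨i + -(j' + j'), hi.add (Even.neg ⟨j', rfl⟩), Or.inl ?_⟩
          rw [Subgroup.coe_mul, hu, hv, mul_assoc, ← mul_assoc s, hs, ← two_mul, c.zpow_two_mul he2,
            mul_one, mul_assoc _ s s, c.ss, mul_one, ← zpow_add]
      inv_mem' := by
        rintro u ⟨i, hi, hu | hu⟩
        · exact ⟨-i, hi.neg, Or.inl (by rw [Subgroup.coe_inv, hu, zpow_neg])⟩
        · refine ⟨i, hi, Or.inr ?_⟩
          obtain ⟨i', rfl⟩ := hi
          rw [Subgroup.coe_inv, hu, mul_inv_rev, inv_eq c.ord_s, ← zpow_neg, hs, neg_neg, zpow_neg e,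
            ← two_mul, c.zpow_two_mul he2, inv_one, mul_one] }
  have hM1 : ∀ (u : H) (i : ℤ), (u : G) = x ^ i → (u ∈ M ↔ Even i) := by
    intro u i hu
    refine ⟨fun ⟨j, hj, h⟩ => ?_, fun h => ⟨i, h, Or.inl hu⟩⟩
    rcases h with h | h
    · exact (hpar (hu.symm.trans h)).2 hj
    · exact absurd (hu.symm.trans h) hnotX
  have hM2 : ∀ (u : H) (i : ℤ), (u : G) = x ^ i * s → (u ∈ M ↔ Even i) := by
    intro u i hu
    refine ⟨fun ⟨j, hj, h⟩ => ?_, fun h => ⟨i, h, Or.inr hu⟩⟩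
    rcases h with h | h
    · exact absurd (h.symm.trans hu) hnotX
    · exact (hpar (mul_right_cancel (hu.symm.trans h))).2 hj
  have hxH : x ∈ H := c.X_le (Subgroup.mem_zpowers x)
  have hMidx : M.index = 2 := by
    rw [Subgroup.index_eq_two_iff]
    refine ⟨⟨x, hxH⟩, fun u => ?_⟩
    obtain ⟨i, hi | hi⟩ := c.mem_H u.2
    · have h1 : ((u * ⟨x, hxH⟩ : H) : G) = x ^ (i + 1) := by
        rw [Subgroup.coe_mul, hi, zpow_add_one]
      rw [hM1 _ _ h1, hM1 _ _ hi]
      by_cases h : Even i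
      · exact Or.inr ⟨h, by simpa [Int.even_add_one] using h⟩
      · exact Or.inl ⟨by simpa [Int.even_add_one] using h, h⟩
    · have h1 : ((u * ⟨x, hxH⟩ : H) : G) = x ^ (i + -1 + 2 * l) * s := by
        rw [Subgroup.coe_mul, hi, mul_assoc]
        have h := hs 1
        rw [zpow_one, zpow_one] at h
        rw [h, hl, ← mul_assoc, ← mul_assoc, ← zpow_add, ← zpow_add]
      rw [hM2 _ _ h1, hM2 _ _ hi]
      by_cases h : Even i
      · refine Or.inr ⟨h, ?_⟩
        rw [Int.even_add, Int.even_add]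
        simp [h]
      · refine Or.inl ⟨?_, h⟩
        rw [Int.even_add, Int.even_add]
        simp [h]
  let ψ : H →* ℤˣ :=
    { toFun := fun u => if u ∈ M then 1 else -1
      map_one' := by simp [M.one_mem]
      map_mul' := fun u v => by
        have := Subgroup.mul_mem_iff_of_index_two hMidx (a := u) (b := v)
        by_cases hu : u ∈ M <;> by_cases hv : v ∈ M <;> simp [hu, hv, this] }
  have hψ : ∀ u : H, ψ u = if u ∈ M then 1 else -1 := fun u => rfl
  refine ⟨ψ, fun u i hu => ?_⟩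
  rw [hψ]
  have hiff : u ∈ M ↔ Even i := hu.elim (hM1 u i) (hM2 u i)
  by_cases h : Even i
  · rw [if_pos (hiff.2 h), if_pos h]
  · rw [if_neg (mt hiff.1 h), if_neg h]

/-- The sign is fusion invariant when it separates the involutions conjugate to `t`. -/
theorem sign_invariant (ψ : Subgroup.centralizer ({t} : Set G) →* ℤˣ)
    (hinvol : ∀ u : Subgroup.centralizer ({t} : Set G), orderOf (u : G) = 2 →
      ((ψ u = 1 ∧ ∃ k : G, k * t * k⁻¹ = u) ∨ (ψ u = -1 ∧ ∀ k : G, k * t * k⁻¹ ≠ u)))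
    (u : Subgroup.centralizer ({t} : Set G)) (k : G)
    (hk : k⁻¹ * (u : G) * k ∈ Subgroup.centralizer ({t} : Set G)) : ψ ⟨_, hk⟩ = ψ u := by
  revert u k hk
  have hψconj : ∀ k u : (Subgroup.centralizer ({t} : Set G)), ψ (k * u * k⁻¹) = ψ u := fun k u => by
    rw [map_mul, map_mul, map_inv, mul_comm (ψ k), mul_inv_cancel_right]
  have key2 : ∀ (u : (Subgroup.centralizer ({t} : Set G))) (k : G) (hk : k⁻¹ * (u : G) * k ∈ (Subgroup.centralizer ({t} : Set G))) (n : ℕ), orderOf (u : G) = 2 ^ n →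
      ψ ⟨_, hk⟩ = ψ u := by
    intro u k hk n hn
    rcases n with _ | _ | n
    · have h1 : u = 1 := Subtype.ext (orderOf_eq_one_iff.1 (by simpa using hn))
      subst h1
      congr 1
      exact Subtype.ext (by simp)
    · have h2 : orderOf (u : G) = 2 := by simpa using hn
      have h2' : orderOf (k⁻¹ * (u : G) * k) = 2 := by
        rw [show k⁻¹ * (u : G) * k = k⁻¹ * u * k⁻¹⁻¹ by group, orderOf_conj, h2]
      rcases hinvol u h2 with ⟨hu, w, hw⟩ | ⟨hu, hw⟩ <;>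
        rcases hinvol ⟨_, hk⟩ h2' with ⟨hv, w', hw'⟩ | ⟨hv, hw'⟩
      · rw [hu, hv]
      · exact absurd (show k⁻¹ * w * t * (k⁻¹ * w)⁻¹ = k⁻¹ * (u : G) * k by rw [← hw]; group)
          (hw' _)
      · exact absurd (show k * w' * t * (k * w')⁻¹ = (u : G) by
          calc k * w' * t * (k * w')⁻¹ = k * (w' * t * w'⁻¹) * k⁻¹ := by group
            _ = u := by rw [hw']; group) (hw _)
      · rw [hu, hv]
    · -- the power of order two is `t`
      have hpow : ∀ w : (Subgroup.centralizer ({t} : Set G)), orderOf (w : G) = 2 ^ (n + 2) → (w : G) ^ 2 ^ (n + 1) = t := by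
        intro w hw
        have hmem : (w : G) ^ 2 ^ (n + 1) ∈ Subgroup.zpowers x := by
          rw [pow_succ, mul_comm, pow_mul]
          exact pow_mem (by rw [pow_two]; exact c.sq_mem w.2) _
        rcases c.unique_inv hmem (by
          rw [← pow_add, show 2 ^ (n + 1) + 2 ^ (n + 1) = orderOf (w : G) by rw [hw]; ring]
          exact pow_orderOf_eq_one _) with h | h
        · exfalso
          have := Nat.le_of_dvd (by positivity) (orderOf_dvd_of_pow_eq_one h)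
          rw [hw] at this
          exact absurd this (not_le.2 (Nat.pow_lt_pow_right (by norm_num) (by omega)))
        · exact h
      have h1 := hpow u hn
      have h2 := hpow ⟨_, hk⟩ (by
        show orderOf (k⁻¹ * (u : G) * k) = _
        rw [show k⁻¹ * (u : G) * k = k⁻¹ * u * k⁻¹⁻¹ by group, orderOf_conj, hn])
      have hkH : k ∈ (Subgroup.centralizer ({t} : Set G)) := by
        rw [Subgroup.mem_centralizer_singleton_iff]
        change (k⁻¹ * (u : G) * k) ^ 2 ^ (n + 1) = t at h2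
        rw [show k⁻¹ * (u : G) * k = k⁻¹ * u * k⁻¹⁻¹ by group, _root_.conj_pow, h1] at h2
        calc k * t = k * (k⁻¹ * t * k⁻¹⁻¹) := by rw [h2]
          _ = t * k := by group
      rw [show (⟨_, hk⟩ : (Subgroup.centralizer ({t} : Set G))) = (⟨k, hkH⟩ : (Subgroup.centralizer ({t} : Set G)))⁻¹ * u * (⟨k, hkH⟩ : (Subgroup.centralizer ({t} : Set G)))⁻¹⁻¹ from Subtype.ext (by simp),
        hψconj]
  intro u k hk
  obtain ⟨n, m, hm, hnm⟩ := Nat.exists_eq_two_pow_mul_odd (orderOf_pos (u : G)).ne'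
  have hm0 : m ≠ 0 := by rintro rfl; simp at hm
  have hodd : ∀ z : ℤˣ, z ^ m = z := fun z => by
    obtain ⟨i, rfl⟩ := hm
    rw [pow_add, pow_mul, pow_two, Int.units_mul_self, one_pow, one_mul, pow_one]
  have hk' : k⁻¹ * ((u ^ m : (Subgroup.centralizer ({t} : Set G))) : G) * k ∈ (Subgroup.centralizer ({t} : Set G)) := by
    rw [show k⁻¹ * ((u ^ m : (Subgroup.centralizer ({t} : Set G))) : G) * k = (k⁻¹ * (u : G) * k) ^ m by
      rw [Subgroup.coe_pow, show k⁻¹ * (u : G) * k = k⁻¹ * u * k⁻¹⁻¹ by group, _root_.conj_pow]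
      group]
    exact (Subgroup.centralizer ({t} : Set G)).pow_mem hk m
  have h := key2 (u ^ m) k hk' n (by
    rw [Subgroup.coe_pow, orderOf_pow_of_dvd hm0 (hnm ▸ dvd_mul_left m _), hnm,
      Nat.mul_div_cancel _ (Nat.pos_of_ne_zero hm0)])
  rw [map_pow, hodd] at h
  rw [← h, ← hodd (ψ ⟨_, hk⟩), ← map_pow]
  congr 1
  refine Subtype.ext ?_
  simp only [Subgroup.coe_pow]
  rw [show k⁻¹ * (u : G) * k = k⁻¹ * u * k⁻¹⁻¹ by group, _root_.conj_pow]
  group

/-- The kernel of the transfer of the sign. -/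
theorem exists_kernel (ψ : Subgroup.centralizer ({t} : Set G) →* ℤˣ)
    (key : ∀ (u : Subgroup.centralizer ({t} : Set G)) (k : G)
      (hk : k⁻¹ * (u : G) * k ∈ Subgroup.centralizer ({t} : Set G)), ψ ⟨_, hk⟩ = ψ u)
    (hx : ψ ⟨x, c.X_le (Subgroup.mem_zpowers x)⟩ = -1) :
    ∃ K : Subgroup G, K.Normal ∧ 2 * Nat.card K = Nat.card G ∧
      ∀ u : Subgroup.centralizer ({t} : Set G), (u : G) ∈ K ↔ ψ u = 1 := by
  have hidx : (Subgroup.centralizer ({t} : Set G)).index = q * b := by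
    have h := Subgroup.card_mul_index (Subgroup.centralizer ({t} : Set G))
    rw [c.card_H, c.spec.card] at h
    exact Nat.eq_of_mul_eq_mul_left (by have := c.a_pos; omega : 0 < 2 * a) (h.trans (by ring))
  have hoddI : ∀ z : ℤˣ, z ^ (Subgroup.centralizer ({t} : Set G)).index = z := fun z => by
    obtain ⟨i, hi⟩ := c.spec.odd_q.mul c.spec.odd
    rw [hidx, hi, pow_add, pow_mul, pow_two, Int.units_mul_self, one_pow, one_mul, pow_one]
  set V := MonoidHom.transfer ψ with hV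
  have hVH : ∀ u : (Subgroup.centralizer ({t} : Set G)), V (u : G) = ψ u := fun u => by
    rw [hV, CfsgLib.Fusion.Transfer.transfer_eq_pow_of_invariant ψ key u, hoddI]
  refine ⟨V.ker, inferInstance, ?_, fun u => by rw [MonoidHom.mem_ker, hVH]⟩
  have hr : V.range = ⊤ := by
    rw [eq_top_iff]
    intro z _
    rcases Int.units_eq_one_or z with rfl | rfl
    · exact one_mem _
    · refine ⟨x, ?_⟩
      rw [show x = ((⟨x, c.X_le (Subgroup.mem_zpowers x)⟩ : (Subgroup.centralizer ({t} : Set G))) : G) from rfl, hVH, hx]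
  rw [← Subgroup.card_mul_index V.ker, Subgroup.index_ker, hr, Subgroup.card_top, mul_comm,
    Nat.card_eq_fintype_card (α := ℤˣ), Fintype.card_units_int]

/-- `4 ∣ a` and `s` inverts the squares in `X`; the involutions `xᵒᵈᵈ s` are not conjugate to `t`,
the `xᵉᵛᵉⁿ s` are. Then `G` has a subgroup of index two, which is impossible. -/
theorem no_index_two (h4 : 4 ∣ a) {e : G} (he : e ∈ Subgroup.zpowers x) (he2 : e * e = 1)
    (hσ : s * x * s⁻¹ = x⁻¹ * e)
    (hA : ∀ i : ℤ, Even i → ∃ k : G, k * t * k⁻¹ = x ^ i * s)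
    (hB : ∀ i : ℤ, Odd i → ∀ k : G, k * t * k⁻¹ ≠ x ^ i * s) : False := by
  classical
  obtain ⟨ψ, hψi⟩ := c.exists_sign h4 he he2 hσ
  obtain ⟨kk, hkk⟩ := h4
  have hhalf : a / 2 = 2 * kk := by omega
  have hxH : x ∈ (Subgroup.centralizer ({t} : Set G)) := c.X_le (Subgroup.mem_zpowers x)
  have htx : t = x ^ (2 * (kk : ℤ)) := by
    rw [← c.t_def, hhalf, ← zpow_natCast]; push_cast; rfl
  have hinvol : ∀ u : (Subgroup.centralizer ({t} : Set G)), orderOf (u : G) = 2 →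
      ((ψ u = 1 ∧ ∃ k : G, k * t * k⁻¹ = u) ∨ (ψ u = -1 ∧ ∀ k : G, k * t * k⁻¹ ≠ u)) := by
    intro u hu
    obtain ⟨i, hi | hi⟩ := c.mem_H u.2
    · refine Or.inl ?_
      rcases c.unique_inv (y := (u : G)) (hi ▸ Subgroup.zpow_mem_zpowers x i) (mul_self hu) with h | h
      · exact absurd h (ne_one hu)
      · exact ⟨(hψi u _ (Or.inl (h.trans htx))).trans (if_pos ⟨kk, two_mul _⟩), 1, by rw [h]; group⟩
    · rcases Int.even_or_odd i with h | h
      · exact Or.inl ⟨(hψi u i (Or.inr hi)).trans (if_pos h), hi ▸ hA i h⟩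
      · exact Or.inr ⟨(hψi u i (Or.inr hi)).trans (if_neg (Int.not_even_iff_odd.2 h)),
          fun k => hi ▸ hB i h k⟩
  have hx1 : ψ ⟨x, hxH⟩ = -1 := (hψi ⟨x, hxH⟩ 1 (Or.inl (zpow_one x).symm)).trans (if_neg (by decide))
  obtain ⟨K, hKn, hK, hKψ⟩ := c.exists_kernel ψ (c.sign_invariant ψ hinvol) hx1
  haveI := hKn
  have hKeven : ∀ (u : (Subgroup.centralizer ({t} : Set G))) (i : ℤ), Even i → ((u : G) = x ^ i ∨ (u : G) = x ^ i * s) → (u : G) ∈ K :=
    fun u i hi hu => (hKψ u).2 ((hψi u i hu).trans (if_pos hi))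
  have hKM : ∀ u : (Subgroup.centralizer ({t} : Set G)), (u : G) ∈ K → ∃ i : ℤ, Even i ∧ ((u : G) = x ^ i ∨ (u : G) = x ^ i * s) := by
    intro u hu
    obtain ⟨i, hi⟩ := c.mem_H u.2
    refine ⟨i, ?_, hi⟩
    by_contra h
    have := (hψi u i hi).symm.trans ((hKψ u).1 hu)
    rw [if_neg h] at this
    exact absurd this (by decide)
  have hxK : x ∉ K := fun h => absurd (hx1.symm.trans ((hKψ ⟨x, hxH⟩).1 h)) (by decide)
  have htK : t ∈ K := hKeven ⟨t, c.X_le c.t_mem⟩ _ ⟨kk, two_mul _⟩ (Or.inl htx)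
  have hsK : s ∈ K := hKeven ⟨s, c.s_mem⟩ 0 Even.zero (Or.inr (by simp))
  have hx2 : ∀ i : ℤ, x ^ (2 * i) ∈ K := fun i =>
    hKeven ⟨_, (Subgroup.centralizer ({t} : Set G)).zpow_mem hxH _⟩ (2 * i) ⟨i, two_mul i⟩ (Or.inl rfl)
  have hnc : ¬ Commute x s := by
    intro hc
    have h1 : s * x * s⁻¹ = x := by rw [← hc.eq, mul_inv_cancel_right]
    rw [h1, eq_inv_mul_iff_mul_eq] at hσ
    have hx4 : orderOf x ∣ 4 := orderOf_dvd_of_pow_eq_one (by
      rw [show 4 = 2 + 2 from rfl, pow_add, pow_two, hσ, he2])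
    refine c.no_four (w := x) (Subgroup.mem_zpowers x) ?_ hc
    rw [c.ord] at hx4 ⊢
    have := Nat.le_of_dvd (by norm_num) hx4
    have := c.a_pos
    omega
  have hloc : ∀ w ∈ K, w ∈ (Subgroup.centralizer ({t} : Set G)) → orderOf w = 2 → ∃ k : G, k * t * k⁻¹ = w := by
    intro w hwK hwH hw
    rcases hinvol ⟨w, hwH⟩ hw with ⟨-, h⟩ | ⟨h, -⟩
    · exact h
    · exact absurd (h.symm.trans ((hKψ ⟨w, hwH⟩).1 hwK)) (by decide)
  obtain ⟨h2, -⟩ := c.bsw K le_rfl hK htK hsK (Subgroup.zpowers (x ^ (2 : ℤ)))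
    (Subgroup.zpowers_le.2 (by simpa using hx2 1))
    (Subgroup.zpowers_le.2 (Subgroup.zpow_mem_zpowers x 2))
    ⟨kk, by simp only; rw [← zpow_mul, ← htx]⟩
    (by
      rintro _ ⟨i, rfl⟩
      simp only
      rw [← zpow_mul, c.sigma he hσ, c.zpow_two_mul he2, mul_one, zpow_neg])
    (fun y hy => c.fix hnc ((Subgroup.zpowers_le.2 (Subgroup.zpow_mem_zpowers x 2)) hy))
    (by
      intro u hu huH
      obtain ⟨i, hi, h | h⟩ := hKM ⟨u, huH⟩ hu <;> obtain ⟨i', rfl⟩ := hi <;> change u = _ at h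
      · exact Or.inl ⟨i', by simp only; rw [h, ← zpow_mul]; congr 1; ring⟩
      · refine Or.inr ⟨i', ?_⟩
        simp only
        rw [h, mul_assoc, c.ss, mul_one, ← zpow_mul]; congr 1; ring)
    (by
      intro u hu h2
      obtain ⟨k, hk⟩ := c.conj_of_local K htK hloc hu h2
      by_cases hkK : k ∈ K
      · exact ⟨k, hkK, hk⟩
      · refine ⟨k * x, ?_, ?_⟩
        · have h2 : K.index = 2 := by
            have h := Subgroup.card_mul_index K
            rw [← hK, mul_comm 2] at h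
            exact Nat.eq_of_mul_eq_mul_left Nat.card_pos h
          exact (Subgroup.mul_mem_iff_of_index_two h2).2 (iff_of_false hkK hxK)
        · rw [← hk]
          calc k * x * t * (k * x)⁻¹ = k * (x * t) * x⁻¹ * k⁻¹ := by group
            _ = k * (t * x) * x⁻¹ * k⁻¹ := by rw [(c.comm_X (Subgroup.mem_zpowers x) c.t_mem).eq]
            _ = k * t * k⁻¹ := by group)
  omega

/-- The case in which `C(t)` is dihedral and all its involutions are conjugate to `t`. -/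
theorem inverted_conclusion (hσ : s * x * s⁻¹ = x⁻¹)
    (hloc : ∀ w ∈ Subgroup.centralizer ({t} : Set G), orderOf w = 2 → ∃ k : G, k * t * k⁻¹ = w) :
    ∃ Q D : Subgroup (⊤ : Subgroup G), Nat.card Q = q ∧
      (∀ y ∈ Q, y ≠ 1 → Subgroup.centralizer ({y} : Set (⊤ : Subgroup G)) = Q) ∧
      IsMulCommutative ↥D ∧ 2 * Nat.card ↥D + 1 = Nat.card ↥Q ∧ Q ⊓ D = ⊥ ∧
      Subgroup.normalizer (Q : Set (⊤ : Subgroup G)) = Q ⊔ D ∧
      ∀ X : Subgroup (⊤ : Subgroup G), X ≤ D → X ≠ ⊥ →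
        Subgroup.normalizer (X : Set (⊤ : Subgroup G)) = Subgroup.normalizer (D : Set (⊤ : Subgroup G)) ∧
        ∃ u : (⊤ : Subgroup G), orderOf u = 2 ∧ u ∉ D ∧ (∀ d ∈ D, u * d * u⁻¹ = d⁻¹) ∧
          Subgroup.normalizer (D : Set (⊤ : Subgroup G)) = D ⊔ Subgroup.zpowers u := by
  have hfix : ∀ y ∈ Subgroup.zpowers x, Commute y s → y = 1 ∨ y = t := by
    intro y hy hys
    refine c.unique_inv hy ?_
    obtain ⟨i, rfl⟩ := hy
    simp only at hys ⊢
    have h := c.sigma (one_mem _) (by rw [hσ, mul_one]) i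
    rw [hys.symm.eq, mul_inv_cancel_right, one_zpow, mul_one, zpow_neg] at h
    exact eq_inv_iff_mul_eq_one.1 h
  obtain ⟨-, Q, D, h1, -, h⟩ := c.bsw (⊤ : Subgroup G) (m := 1) (by norm_num)
    (by rw [one_mul, Subgroup.card_top]) (Subgroup.mem_top _) (Subgroup.mem_top _)
    (Subgroup.zpowers x) le_top le_rfl c.t_mem
    (fun y ⟨i, hi⟩ => by
      subst hi
      simp only
      rw [c.sigma (one_mem _) (by rw [hσ, mul_one]) i, one_zpow, mul_one, zpow_neg])
    hfix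
    (by
      intro u _ hu
      obtain ⟨i, h | h⟩ := c.mem_H hu
      · exact Or.inl (h ▸ Subgroup.zpow_mem_zpowers x i)
      · exact Or.inr (by rw [h, mul_assoc, c.ss, mul_one]; exact Subgroup.zpow_mem_zpowers x i))
    (by
      intro u _ hu
      obtain ⟨k, hk⟩ := c.conj_of_local ⊤ (Subgroup.mem_top _) (fun w _ => hloc w)
        (Subgroup.mem_top _) hu
      exact ⟨k, Subgroup.mem_top _, hk⟩)
  exact ⟨Q, D, h1, h⟩

theorem inverted (hσ : s * x * s⁻¹ = x⁻¹) :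
    ∀ w ∈ Subgroup.centralizer ({t} : Set G), orderOf w = 2 → ∃ k : G, k * t * k⁻¹ = w := by
  have hσ1 : s * x * s⁻¹ = x⁻¹ * 1 := by rw [hσ, mul_one]
  have hcs : ∀ j : ℤ, x ^ j * s * (x ^ j)⁻¹ = x ^ (2 * j) * s := fun j => by
    rw [c.conj_s (one_mem _) (mul_one 1) hσ1, one_zpow, mul_one]
  have heven : ∀ i : ℤ, Even i → ∃ k : G, k * t * k⁻¹ = x ^ i * s := by
    rintro i ⟨j, rfl⟩
    refine ⟨x ^ j * g, ?_⟩
    rw [← two_mul, ← hcs]
    calc x ^ j * g * t * (x ^ j * g)⁻¹ = x ^ j * (g * t * g⁻¹) * (x ^ j)⁻¹ := by group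
      _ = _ := by rw [c.s_def]
  intro w hw hw2
  obtain ⟨i, h | h⟩ := c.mem_H hw
  · rcases c.unique_inv (y := w) (h ▸ Subgroup.zpow_mem_zpowers x i) (mul_self hw2) with e | e
    · exact absurd e (ne_one hw2)
    · exact ⟨1, by rw [e]; group⟩
  subst h
  rcases Int.even_or_odd i with hi | hi
  · exact heven i hi
  -- move `xᵒᵈᵈ s` to a single representative
  have hrep : ∀ i₀ : ℤ, Odd i₀ → (∃ k : G, k * t * k⁻¹ = x ^ i₀ * s) →
      ∃ k : G, k * t * k⁻¹ = x ^ i * s := by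
    rintro i₀ hi₀ ⟨k, hk⟩
    obtain ⟨j, hj⟩ := hi.sub_odd hi₀
    refine ⟨x ^ j * k, ?_⟩
    calc x ^ j * k * t * (x ^ j * k)⁻¹ = x ^ j * (k * t * k⁻¹) * (x ^ j)⁻¹ := by group
      _ = x ^ j * (x ^ i₀ * s) * (x ^ j)⁻¹ := by rw [hk]
      _ = x ^ i₀ * (x ^ j * s * (x ^ j)⁻¹) := by
          rw [← mul_assoc, ← zpow_add, add_comm, zpow_add]; group
      _ = x ^ i * s := by
          rw [hcs, ← mul_assoc, ← zpow_add]; congr 2; omega
  rcases Nat.even_or_odd (a / 2) with he | ho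
  · by_contra hno
    obtain ⟨k, hk⟩ := he
    refine c.no_index_two ⟨k, by have := c.a_half; omega⟩ (one_mem _) (mul_one 1) hσ1 heven
      fun i' hi' k' hk' => ?_
    obtain ⟨j, hj⟩ := hi.sub_odd hi'
    refine hno ⟨x ^ j * k', ?_⟩
    calc x ^ j * k' * t * (x ^ j * k')⁻¹ = x ^ j * (k' * t * k'⁻¹) * (x ^ j)⁻¹ := by group
      _ = x ^ j * (x ^ i' * s) * (x ^ j)⁻¹ := by rw [hk']
      _ = x ^ i' * (x ^ j * s * (x ^ j)⁻¹) := by
          rw [← mul_assoc, ← zpow_add, add_comm, zpow_add]; group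
      _ = x ^ i * s := by
          rw [hcs, ← mul_assoc, ← zpow_add]; congr 2; omega
  · obtain ⟨n, hn1, hn2, -⟩ := c.exists_three_cycle ho
    refine hrep ((a / 2 : ℕ) : ℤ) (by exact_mod_cast ho) ⟨n * g, ?_⟩
    rw [zpow_natCast, c.t_def, ← hn2]
    calc n * g * t * (n * g)⁻¹ = n * (g * t * g⁻¹) * n⁻¹ := by group
      _ = _ := by rw [c.s_def]

/-- The semidihedral case does not occur. -/
theorem semidihedral_false (hσ : s * x * s⁻¹ = x⁻¹ * t) (h8 : Even (a / 4)) (h4 : 4 ∣ a) :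
    False := by
  obtain ⟨kk, hkk⟩ := h4
  obtain ⟨l, hl⟩ := h8
  have hl' : kk = l + l := by omega
  have ht : x ^ (2 * (kk : ℤ)) = t := by
    rw [← c.t_def, show a / 2 = 2 * kk by omega, ← zpow_natCast]
    push_cast; rfl
  have hcs : ∀ j : ℤ, x ^ j * s * (x ^ j)⁻¹ = x ^ (2 * j * (1 + kk)) * s := fun j => by
    rw [c.conj_s c.t_mem c.tt hσ, ← ht, ← zpow_mul, ← zpow_add]
    congr 2
    ring
  refine c.no_index_two ⟨kk, hkk⟩ c.t_mem c.tt hσ ?_ ?_
  · rintro i ⟨j, rfl⟩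
    refine ⟨x ^ (j * (1 + (kk : ℤ))) * g, ?_⟩
    have hmod : x ^ (2 * (j * (1 + (kk : ℤ))) * (1 + kk)) = x ^ (j + j) := by
      rw [show 2 * (j * (1 + (kk : ℤ))) * (1 + kk) = (j + j) + (a : ℤ) * (j * (1 + l)) by
        have h1 : (a : ℤ) = 4 * kk := by exact_mod_cast hkk
        have h2 : (kk : ℤ) = 2 * l := by rw [hl']; push_cast; ring
        rw [h1, h2]; ring,
        zpow_add, zpow_mul x (a : ℤ), zpow_natCast, ← c.ord, pow_orderOf_eq_one, one_zpow, mul_one]
    calc x ^ (j * (1 + (kk : ℤ))) * g * t * (x ^ (j * (1 + (kk : ℤ))) * g)⁻¹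
        = x ^ (j * (1 + (kk : ℤ))) * (g * t * g⁻¹) * (x ^ (j * (1 + (kk : ℤ))))⁻¹ := by group
      _ = _ := by rw [c.s_def, hcs, hmod]
  · intro i hi k hk
    have h2 : x ^ i * s * (x ^ i * s) = 1 := by
      rw [← hk, show k * t * k⁻¹ * (k * t * k⁻¹) = k * (t * t) * k⁻¹ by group, c.tt]; group
    have h3 : x ^ i * (s * x ^ i * s⁻¹) = 1 := by
      rw [inv_eq c.ord_s, ← h2]; group
    rw [c.sigma c.t_mem hσ, ← mul_assoc, ← zpow_add, add_neg_cancel, zpow_zero, one_mul] at h3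
    obtain ⟨j, rfl⟩ := hi
    rw [zpow_add, c.zpow_two_mul c.tt, one_mul, zpow_one] at h3
    exact ne_one c.ord_t h3

end

end Cfg

end CfsgLib.Characterizations.PSL2Spectrum
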