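import Cfsg.Agent.Lib.Characterizations.PSL2Spectrum.BSW

/-!
# The centraliser of an involution is not abelian of order at least six

The normaliser `M` of `H = C(t)` would have `H` as a subgroup of index three, and each of the
`qb - 3` involutions outside `M` inverts exactly one element of order three in either of the
cosets `M ∖ H`.
-/

set_option autoImplicit false
set_option linter.unusedSectionVars false
set_option linter.style.haveILetI false

open CfsgLib.Involution.Dihedral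

namespace CfsgLib.Characterizations.PSL2Spectrum.Cfg

variable {G : Type*} [Group G] [Finite G] {p f q a b : ℕ} {x t s g : G}

section
variable (c : Cfg p f q a b x t s g) (hc : Commute x s)
include c hc

theorem abel {u v : G} (hu : u ∈ Subgroup.centralizer ({t} : Set G))
    (hv : v ∈ Subgroup.centralizer ({t} : Set G)) : Commute u v := by
  have hx : ∀ i j : ℤ, Commute (x ^ i) (x ^ j) := fun i j => (Commute.refl x).zpow_zpow i j
  have hs : ∀ i : ℤ, Commute (x ^ i) s := fun i => hc.zpow_left i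
  obtain ⟨i, rfl | rfl⟩ := c.mem_H hu <;> obtain ⟨j, rfl | rfl⟩ := c.mem_H hv
  · exact hx i j
  · exact (hx i j).mul_right (hs i)
  · exact (hx i j).mul_left (hs j).symm
  · exact ((hx i j).mul_right (hs i)).mul_left ((hs j).symm.mul_right (Commute.refl s))

theorem cent_eq {z : G} (hz : z ∈ Subgroup.centralizer ({t} : Set G)) (hz1 : z ≠ 1) :
    Subgroup.centralizer ({z} : Set G) = Subgroup.centralizer ({t} : Set G) := by
  obtain ⟨r, hr, hrz⟩ := Nat.exists_prime_and_dvd (n := orderOf z)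
    (fun e => hz1 (orderOf_eq_one_iff.1 e))
  have hra : r ∣ a := by
    have h : r ∣ 2 * a := hrz.trans (c.card_H ▸ Subgroup.orderOf_dvd_natCard _ hz)
    exact (hr.dvd_mul.1 h).elim (fun e => e.trans c.spec.even.two_dvd) id
  refine (Subgroup.eq_of_le_of_card_ge
    (fun u hu => Subgroup.mem_centralizer_singleton_iff.2 (c.abel hc hu hz).eq) ?_).symm
  rw [c.card_H]
  exact Nat.le_of_dvd (by have := c.a_pos; omega) (c.spec.cent_dvd_a hr hrz hra)

theorem inv_cases {u : G} (hu : u ∈ Subgroup.centralizer ({t} : Set G)) (h2 : orderOf u = 2) :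
    u = t ∨ u = s ∨ u = t * s := by
  obtain ⟨i, rfl | rfl⟩ := c.mem_H hu
  · exact (c.unique_inv (Subgroup.zpow_mem_zpowers x i) (mul_self h2)).elim
      (fun e => absurd e (ne_one h2)) Or.inl
  · have h := mul_self h2
    rw [(hc.zpow_left i).symm.mul_mul_mul_comm, c.ss, mul_one] at h
    · rcases c.unique_inv (Subgroup.zpow_mem_zpowers x i) h with e | e
      · exact Or.inr (Or.inl (by rw [e, one_mul]))
      · exact Or.inr (Or.inr (by rw [e]))

theorem mem_normalizer_of {v z : G} (hz : z ∈ Subgroup.centralizer ({t} : Set G)) (hz1 : z ≠ 1)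
    (hvz : v * z * v⁻¹ ∈ Subgroup.centralizer ({t} : Set G)) :
    v ∈ Subgroup.normalizer (Subgroup.centralizer ({t} : Set G) : Set G) := by
  have hvz1 : v * z * v⁻¹ ≠ 1 := fun e => hz1 (conj_eq_one_iff.1 e)
  rw [Subgroup.mem_normalizer_iff]
  intro h
  constructor
  · intro hh
    rw [← c.cent_eq hc hvz hvz1, Subgroup.mem_centralizer_singleton_iff]
    calc v * h * v⁻¹ * (v * z * v⁻¹) = v * (h * z) * v⁻¹ := by group
      _ = v * (z * h) * v⁻¹ := by rw [(c.abel hc hh hz).eq]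
      _ = _ := by group
  · intro hh
    rw [← c.cent_eq hc hz hz1, Subgroup.mem_centralizer_singleton_iff]
    have e := (c.abel hc hh hvz).eq
    calc h * z = v⁻¹ * (v * h * v⁻¹ * (v * z * v⁻¹)) * v := by group
      _ = v⁻¹ * (v * z * v⁻¹ * (v * h * v⁻¹)) * v := by rw [e]
      _ = z * h := by group

theorem abelian_false (ho : Odd (a / 2)) (h2a : 2 < a) : False := by
  classical
  set H := Subgroup.centralizer ({t} : Set G) with hH
  set M := Subgroup.normalizer (H : Set G) with hMdef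
  have hHM : H ≤ M := Subgroup.le_normalizer
  have htH : t ∈ H := c.X_le c.t_mem
  have hsH : s ∈ H := c.s_mem
  obtain ⟨n, hn1, hn2, hn3⟩ := c.exists_three_cycle ho
  have hts1 : t * s ≠ t := by simp [ne_one c.ord_s]
  have hts2 : t * s ≠ s := by simp [ne_one c.ord_t]
  have hnM : n ∈ M := c.mem_normalizer_of hc htH (ne_one c.ord_t) (hn1 ▸ hsH)
  have hnn : n * n * t * (n * n)⁻¹ = t * s := by
    rw [← hn2, ← hn1]; group
  have hfix : ∀ v : G, v * t * v⁻¹ = t ↔ v ∈ H := fun v => by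
    rw [hH, Subgroup.mem_centralizer_singleton_iff, mul_inv_eq_iff_eq_mul]
  -- the cosets of `H` in `M`
  let rep : Fin 3 → G := ![1, n, n * n]
  have himg : ∀ i, rep i * t * (rep i)⁻¹ = ![t, s, t * s] i := fun i => by
    fin_cases i
    · simp [rep]
    · simpa [rep] using hn1
    · simpa [rep, mul_inv_rev] using hnn
  have hinjimg : Function.Injective (![t, s, t * s] : Fin 3 → G) := by
    intro i j e
    fin_cases i <;> fin_cases j <;>
      simp_all [c.ne, c.ne.symm, Ne.symm hts1, Ne.symm hts2]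
  have hrepM : ∀ i, rep i ∈ M := fun i => by
    fin_cases i
    · simpa [rep] using M.one_mem
    · simpa [rep] using hnM
    · simpa [rep] using M.mul_mem hnM hnM
  have hcardM : Nat.card M = 3 * (2 * a) := by
    rw [← c.card_H, ← Nat.card_fin 3, ← Nat.card_prod]
    refine (Nat.card_congr (Equiv.ofBijective
      (fun z : Fin 3 × H => (⟨rep z.1 * z.2, M.mul_mem (hrepM _) (hHM z.2.2)⟩ : M)) ⟨?_, ?_⟩)).symm
    · rintro ⟨i, h⟩ ⟨j, k⟩ e
      have e' : rep i * h = rep j * k := congrArg Subtype.val e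
      have : rep i * t * (rep i)⁻¹ = rep j * t * (rep j)⁻¹ := by
        calc rep i * t * (rep i)⁻¹ = rep i * h * t * (rep i * h)⁻¹ := by
              rw [mul_inv_rev, mul_assoc (rep i) (h : G) t, (c.abel hc h.2 htH).eq]; group
          _ = rep j * k * t * (rep j * k)⁻¹ := by rw [e']
          _ = rep j * t * (rep j)⁻¹ := by
              rw [mul_inv_rev, mul_assoc (rep j) (k : G) t, (c.abel hc k.2 htH).eq]; group
      rw [himg, himg] at this
      obtain rfl := hinjimg this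
      exact Prod.ext rfl (Subtype.ext (mul_left_cancel e'))
    · rintro ⟨v, hv⟩
      have hvt : v * t * v⁻¹ ∈ H := (Subgroup.mem_normalizer_iff.1 hv t).1 htH
      obtain ⟨i, hi⟩ : ∃ i, v * t * v⁻¹ = ![t, s, t * s] i := by
        rcases c.inv_cases hc hvt (by rw [orderOf_conj, c.ord_t]) with e | e | e
        · exact ⟨0, by simpa using e⟩
        · exact ⟨1, by simpa using e⟩
        · exact ⟨2, by simpa using e⟩
      refine ⟨(i, ⟨(rep i)⁻¹ * v, (hfix _).1 ?_⟩), Subtype.ext (by simp)⟩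
      calc (rep i)⁻¹ * v * t * ((rep i)⁻¹ * v)⁻¹ = (rep i)⁻¹ * (v * t * v⁻¹) * rep i := by group
        _ = t := by rw [hi, ← himg]; group
  have hnorm : (H.subgroupOf M).Normal := Subgroup.normal_in_normalizer
  have hidx : (H.subgroupOf M).index = 3 := by
    have h := Subgroup.card_mul_index (H.subgroupOf M)
    rw [Nat.card_congr (Subgroup.subgroupOfEquivOfLe hHM).toEquiv, c.card_H, hcardM] at h
    exact Nat.eq_of_mul_eq_mul_left (by have := c.a_pos; omega : 0 < 2 * a) (h.trans (mul_comm _ _))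
  have hcube : ∀ v ∈ M, v ^ 3 ∈ H := fun v hv => by
    simpa [Subgroup.mem_subgroupOf, hidx] using Subgroup.pow_index_mem (H.subgroupOf M) (⟨v, hv⟩ : M)
  have hinvM : ∀ v ∈ M, orderOf v = 2 → v ∈ H := fun v hv h2 => by
    have h3 := hcube v hv
    rwa [pow_succ, pow_two, mul_self h2, one_mul] at h3
  have h3a : ¬ 3 ∣ a := by
    intro h
    have hd := Subgroup.card_subgroup_dvd_card M
    rw [hcardM, c.spec.card, show 2 * q * a * b = (q * b) * (2 * a) by ring] at hd
    rcases (Nat.prime_three.dvd_mul).1 (Nat.dvd_of_mul_dvd_mul_right (by omega) hd) with e | e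
    · exact c.spec.not_a_q Nat.prime_three h e
    · exact c.spec.not_a_b Nat.prime_three h e
  -- all involutions are conjugate to `t`
  have hall : ∀ u : G, orderOf u = 2 → ∃ k : G, k * t * k⁻¹ = u := fun u hu =>
    c.conj_of_local ⊤ (Subgroup.mem_top _) (fun w _ hw hw2 => by
      rcases c.inv_cases hc hw hw2 with rfl | rfl | rfl
      · exact ⟨1, by group⟩
      · exact ⟨g, c.s_def⟩
      · exact ⟨n * n, hnn⟩) (Subgroup.mem_top _) hu
  let Inv : Finset G := {u ∈ (Set.finite_univ (α := G)).toFinset | orderOf u = 2}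
  have hInv : ∀ {u : G}, u ∈ Inv ↔ orderOf u = 2 := fun {u} => by simp [Inv]
  have hInvcard : Inv.card = q * b := by
    have hidxH : H.index = q * b := by
      have h := Subgroup.card_mul_index H
      rw [c.card_H, c.spec.card] at h
      exact Nat.eq_of_mul_eq_mul_left (by omega : 0 < 2 * a) (h.trans (by ring))
    rw [← hidxH, Subgroup.index, ← Nat.card_eq_finsetCard]
    symm
    refine Nat.card_congr (Equiv.ofBijective (Quotient.lift
      (fun v => (⟨v * t * v⁻¹, hInv.2 (by rw [orderOf_conj, c.ord_t])⟩ : Inv)) ?_) ⟨?_, ?_⟩)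
    · intro v w hvw
      have hm : v⁻¹ * w ∈ H := QuotientGroup.leftRel_apply.1 hvw
      refine Subtype.ext ?_
      calc v * t * v⁻¹ = v * (t * (v⁻¹ * w)) * w⁻¹ := by group
        _ = v * ((v⁻¹ * w) * t) * w⁻¹ := by rw [(c.abel hc htH hm).eq]
        _ = w * t * w⁻¹ := by group
    · rintro ⟨v⟩ ⟨w⟩ e
      have e' : v * t * v⁻¹ = w * t * w⁻¹ := congrArg Subtype.val e
      refine QuotientGroup.eq.2 ((hfix _).1 ?_)
      calc v⁻¹ * w * t * (v⁻¹ * w)⁻¹ = v⁻¹ * (w * t * w⁻¹) * v := by group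
        _ = t := by rw [← e']; group
    · rintro ⟨u, hu⟩
      obtain ⟨k, hk⟩ := hall u (hInv.1 hu)
      exact ⟨QuotientGroup.mk k, Subtype.ext hk⟩
  -- fibres over the cosets of `M`
  let π : G → G ⧸ M := QuotientGroup.mk
  have hπ : ∀ {u v : G}, orderOf u = 2 → (π v = π u ↔ u * v ∈ M) := fun {u v} hu => by
    rw [eq_comm, QuotientGroup.eq, inv_eq hu]
  have hinverted : ∀ {u v : G}, orderOf u = 2 → orderOf v = 2 → u * (u * v) * u⁻¹ = (u * v)⁻¹ :=
    fun hu hv => conj_mul_left hu hv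
  have htie : ∀ {u : G}, u ∉ M → ∀ {z : G}, z ∈ H → u * z * u⁻¹ ∈ H → z = 1 := fun {u} hu {z} hz hz' =>
    by_contra fun h => hu (c.mem_normalizer_of hc hz h hz')
  have hsame : ∀ {u y z : G}, u ∉ M → y ∈ M → z ∈ M → u * y * u⁻¹ = y⁻¹ → u * z * u⁻¹ = z⁻¹ →
      z⁻¹ * y ∈ H → y = z := by
    intro u y z hu hy hz ey ez h
    have h' : z * y⁻¹ ∈ H := by
      have : y * (z⁻¹ * y) * y⁻¹ ∈ H := (Subgroup.mem_normalizer_iff.1 hy _).1 h
      rw [show y * (z⁻¹ * y) * y⁻¹ = (z * y⁻¹)⁻¹ by group] at this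
      exact H.inv_mem_iff.1 this
    have e : u * (z⁻¹ * y) * u⁻¹ = z * y⁻¹ := by
      rw [show u * (z⁻¹ * y) * u⁻¹ = (u * z * u⁻¹)⁻¹ * (u * y * u⁻¹) by group, ey, ez, inv_inv]
    exact (inv_mul_eq_one.1 (htie hu h (e ▸ h'))).symm
  have hfib : ∀ u ∈ Inv, {v ∈ Inv | π v = π u}.card ≤ 3 := by
    intro u hu
    by_cases huM : u ∈ M
    · have hsub : {v ∈ Inv | π v = π u} ⊆ ({t, s, t * s} : Finset G) := by
        intro v hv
        rw [Finset.mem_filter, hπ (hInv.1 hu)] at hv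
        have hvM : v ∈ M := by simpa using M.mul_mem (M.inv_mem huM) hv.2
        simpa using c.inv_cases hc (hinvM v hvM (hInv.1 hv.1)) (hInv.1 hv.1)
      exact (Finset.card_le_card hsub).trans Finset.card_le_three
    · rw [← hidx, Subgroup.index, ← Nat.card_eq_finsetCard]
      refine Nat.card_le_card_of_injective (fun v => (QuotientGroup.mk
        (⟨u * v.1, (hπ (hInv.1 hu)).1 (Finset.mem_filter.1 v.2).2⟩ : M) : M ⧸ H.subgroupOf M)) ?_
      rintro ⟨v, hv⟩ ⟨w, hw⟩ e
      rw [Finset.mem_filter, hπ (hInv.1 hu)] at hv hw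
      have h : (u * w)⁻¹ * (u * v) ∈ H := by
        have := QuotientGroup.eq.1 e.symm
        simpa [Subgroup.mem_subgroupOf] using this
      exact Subtype.ext (mul_left_cancel (hsame huM hv.2 hw.2 (hinverted (hInv.1 hu) (hInv.1 hv.1))
        (hinverted (hInv.1 hu) (hInv.1 hw.1)) h))
  haveI : Fintype (G ⧸ M) := Fintype.ofFinite _
  have hfib' : ∀ C : G ⧸ M, {v ∈ Inv | π v = C}.card ≤ 3 := by
    intro C
    rcases ({v ∈ Inv | π v = C}).eq_empty_or_nonempty with h | ⟨u, hu⟩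
    · rw [h]; simp
    · rw [Finset.mem_filter] at hu
      obtain ⟨hu, rfl⟩ := hu
      exact hfib u hu
  have hN : 3 * Fintype.card (G ⧸ M) = q * b := by
    rw [← Nat.card_eq_fintype_card]
    have h := Subgroup.card_mul_index M
    rw [hcardM, c.spec.card, Subgroup.index] at h
    refine Nat.eq_of_mul_eq_mul_left (by omega : 0 < 2 * a) ?_
    rw [← mul_assoc, mul_comm (2 * a) 3, h]; ring
  have hsum := Finset.card_eq_sum_card_fiberwise (f := π) (t := (Finset.univ : Finset (G ⧸ M)))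
    (s := Inv) (fun v _ => Finset.mem_univ _)
  have hexact : ∀ C : G ⧸ M, {v ∈ Inv | π v = C}.card = 3 := by
    by_contra h
    push Not at h
    obtain ⟨C, hC⟩ := h
    have : ∑ C : G ⧸ M, {v ∈ Inv | π v = C}.card < ∑ _C : G ⧸ M, 3 :=
      Finset.sum_lt_sum (fun C _ => hfib' C) ⟨C, Finset.mem_univ _, lt_of_le_of_ne (hfib' C) hC⟩
    rw [← hsum, Finset.sum_const, Finset.card_univ, smul_eq_mul, hInvcard] at this
    omega
  -- the incidence between `M ∖ H` and the involutions outside `M`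
  let Y : Finset G := {v ∈ (Set.finite_univ (α := G)).toFinset | v ∈ M ∧ v ∉ H}
  let U : Finset G := {v ∈ Inv | v ∉ M}
  have hY : ∀ {v : G}, v ∈ Y ↔ v ∈ M ∧ v ∉ H := fun {v} => by simp [Y]
  have hU : ∀ {v : G}, v ∈ U ↔ orderOf v = 2 ∧ v ∉ M := fun {v} => by simp [U, hInv]
  let R : G → G → Prop := fun y u => u * y * u⁻¹ = y⁻¹
  have hrow : ∀ u ∈ U, {y ∈ Y | R y u}.card = 2 := by
    intro u hu
    rw [hU] at hu
    have huI : u ∈ Inv := hInv.2 hu.1
    have h3 := hexact (π u)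
    have hmem : u ∈ {v ∈ Inv | π v = π u} := Finset.mem_filter.2 ⟨huI, rfl⟩
    rw [← Finset.card_erase_add_one hmem] at h3
    refine (Nat.add_right_cancel (m := 1) ?_)
    refine (congrArg (· + 1) (Finset.card_bij' (fun y _ => u * y) (fun v _ => u * v)
      (t := {v ∈ Inv | π v = π u}.erase u) ?_ ?_ ?_ ?_)).trans h3
    · intro y hy
      rw [Finset.mem_filter, hY] at hy
      obtain ⟨⟨hyM, hyH⟩, hyu⟩ := hy
      change u * y * u⁻¹ = y⁻¹ at hyu
      refine Finset.mem_erase.2 ⟨fun e => hyH (by rw [mul_eq_left.1 e]; exact H.one_mem),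
        Finset.mem_filter.2 ⟨hInv.2 (orderOf_eq_two ?_ ?_), ?_⟩⟩
      · rw [inv_eq hu.1] at hyu
        rw [← mul_assoc, hyu, inv_mul_cancel]
      · intro e
        have : u = y⁻¹ := eq_inv_of_mul_eq_one_left e
        exact hu.2 (this ▸ M.inv_mem hyM)
      · rw [hπ hu.1, ← mul_assoc, mul_self hu.1, one_mul]; exact hyM
    · intro v hv
      rw [Finset.mem_erase, Finset.mem_filter, hπ hu.1, hInv] at hv
      obtain ⟨hvu, hv2, hvM⟩ := hv
      refine Finset.mem_filter.2 ⟨hY.2 ⟨hvM, fun h => hvu ?_⟩, hinverted hu.1 hv2⟩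
      have h1 := htie hu.2 h (by rw [hinverted hu.1 hv2]; exact H.inv_mem h)
      exact ((inv_eq hu.1).symm.trans (inv_eq_of_mul_eq_one_right h1)).symm
    · intro y _; rw [← mul_assoc, mul_self hu.1, one_mul]
    · intro v _; rw [← mul_assoc, mul_self hu.1, one_mul]
  have hconjY : ∀ y₀ ∈ Y, ∀ y ∈ Y, y₀⁻¹ * y ∈ H → ∃ h ∈ H, h * y₀ * h⁻¹ = y := by
    intro y₀ hy₀ y hy hmem
    rw [hY] at hy₀ hy
    have hmaps : ∀ h : H, y₀⁻¹ * ((h : G) * y₀ * (h : G)⁻¹) ∈ H := fun h => by
      rw [show y₀⁻¹ * ((h : G) * y₀ * (h : G)⁻¹) = (y₀⁻¹ * h * y₀⁻¹⁻¹) * (h : G)⁻¹ by group]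
      exact H.mul_mem ((Subgroup.mem_normalizer_iff.1 (M.inv_mem hy₀.1) _).1 h.2) (H.inv_mem h.2)
    have hinj : Function.Injective (fun h : H => (⟨_, hmaps h⟩ : H)) := by
      intro h k e
      have e' : (h : G) * y₀ * (h : G)⁻¹ = (k : G) * y₀ * (k : G)⁻¹ :=
        mul_left_cancel (congrArg Subtype.val e)
      by_contra hne
      refine hy₀.2 ?_
      rw [hH, ← c.cent_eq hc (z := (k : G)⁻¹ * h) (H.mul_mem (H.inv_mem k.2) h.2)
        (fun e => hne (Subtype.ext (inv_mul_eq_one.1 e).symm)), Subgroup.mem_centralizer_singleton_iff]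
      calc y₀ * ((k : G)⁻¹ * h) = (k : G)⁻¹ * ((k : G) * y₀ * (k : G)⁻¹) * h := by group
        _ = (k : G)⁻¹ * ((h : G) * y₀ * (h : G)⁻¹) * h := by rw [e']
        _ = _ := by group
    obtain ⟨h, hh⟩ := Finite.injective_iff_surjective.1 hinj ⟨_, hmem⟩
    exact ⟨h, h.2, mul_left_cancel (congrArg Subtype.val hh)⟩
  -- one inverted element
  obtain ⟨u₁, hu₁⟩ : U.Nonempty := by
    rw [Finset.nonempty_iff_ne_empty]
    intro h
    have hsub : Inv ⊆ {v ∈ Inv | π v = π 1} := fun v hv => by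
      refine Finset.mem_filter.2 ⟨hv, QuotientGroup.eq.2 ?_⟩
      have hvM : v ∈ M := by_contra fun hvM => by
        have : v ∈ U := hU.2 ⟨hInv.1 hv, hvM⟩
        simp [h] at this
      simpa using M.inv_mem hvM
    have := Finset.card_le_card hsub
    rw [hexact, hInvcard] at this
    have := Nat.mul_le_mul c.spec.five c.spec.three_le_b
    omega
  obtain ⟨y₁, hy₁⟩ : {y ∈ Y | R y u₁}.Nonempty := Finset.card_pos.1 (by rw [hrow u₁ hu₁]; norm_num)
  rw [Finset.mem_filter] at hy₁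
  obtain ⟨hy₁Y, hy₁u⟩ := hy₁
  rw [hU] at hu₁
  change u₁ * y₁ * u₁⁻¹ = y₁⁻¹ at hy₁u
  have hy₁' := hY.1 hy₁Y
  have hy13 : y₁ ^ 3 = 1 := htie hu₁.2 (hcube y₁ hy₁'.1) (by
    rw [← _root_.conj_pow, hy₁u, inv_pow]; exact H.inv_mem (hcube y₁ hy₁'.1))
  have hy10 : y₁ ≠ 1 := fun e => hy₁'.2 (e ▸ H.one_mem)
  have hoy : orderOf y₁ = 3 := by
    haveI : Fact (Nat.Prime 3) := ⟨Nat.prime_three⟩
    exact orderOf_eq_prime hy13 hy10
  set cc := Nat.card (Subgroup.centralizer ({y₁} : Set G)) with hcc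
  -- the inverters of `y₁`
  have hcol₁ : {u ∈ U | R y₁ u}.card = cc := by
    rw [hcc, ← Nat.card_eq_finsetCard]
    refine (Nat.card_congr (Equiv.ofBijective (fun w : Subgroup.centralizer ({y₁} : Set G) =>
      (⟨u₁ * w.1, ?_⟩ : {u ∈ U | R y₁ u})) ⟨?_, ?_⟩)).symm
    · obtain ⟨w, hw⟩ := w
      rw [Subgroup.mem_centralizer_singleton_iff] at hw
      have hR : u₁ * w * y₁ * (u₁ * w)⁻¹ = y₁⁻¹ := by
        rw [← hy₁u, mul_assoc u₁ w y₁, hw]; group
      have hne : y₁ * y₁ ≠ 1 := by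
        intro e
        rw [show 3 = 2 + 1 from rfl, pow_succ, pow_two, e, one_mul] at hy13
        exact hy10 hy13
      have hWW : Commute (u₁ * w * (u₁ * w)) y₁ := by
        have h1 : u₁ * w * y₁⁻¹ * (u₁ * w)⁻¹ = y₁ := by
          rw [show u₁ * w * y₁⁻¹ * (u₁ * w)⁻¹ = (u₁ * w * y₁ * (u₁ * w)⁻¹)⁻¹ by group, hR, inv_inv]
        refine (mul_inv_eq_iff_eq_mul.1 ?_)
        calc u₁ * w * (u₁ * w) * y₁ * (u₁ * w * (u₁ * w))⁻¹
            = u₁ * w * (u₁ * w * y₁ * (u₁ * w)⁻¹) * (u₁ * w)⁻¹ := by group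
          _ = y₁ := by rw [hR, h1]
      have h2 : 2 ∣ orderOf (u₁ * w) := by
        by_contra h
        obtain ⟨k, hk⟩ : Odd (orderOf (u₁ * w)) := Nat.not_even_iff_odd.1 (by rwa [even_iff_two_dvd])
        have e : u₁ * w = (u₁ * w * (u₁ * w)) ^ (k + 1) := by
          rw [← pow_two, ← pow_mul, show 2 * (k + 1) = orderOf (u₁ * w) + 1 by omega, pow_add,
            pow_orderOf_eq_one, one_mul, pow_one]
        have hcm : Commute (u₁ * w) y₁ := by rw [e]; exact hWW.pow_left _
        rw [hcm.eq, mul_inv_cancel_right] at hR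
        exact hne (eq_inv_iff_mul_eq_one.1 hR)
      have hWa := c.spec.dvd_a_of Nat.prime_two h2 c.spec.even.two_dvd
      have hW2 : u₁ * w * (u₁ * w) = 1 := by
        by_contra h
        obtain ⟨r, hr, hrW⟩ := Nat.exists_prime_and_dvd (n := orderOf (u₁ * w * (u₁ * w)))
          (fun e => h (orderOf_eq_one_iff.1 e))
        have hra : r ∣ a := by
          refine hrW.trans (Nat.dvd_trans ?_ hWa)
          rw [← pow_two]; exact orderOf_pow_dvd 2
        have hrC : r ∣ Nat.card (Subgroup.centralizer ({y₁} : Set G)) := hrW.trans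
          (Subgroup.orderOf_dvd_natCard _ (Subgroup.mem_centralizer_singleton_iff.2 hWW.eq))
        rcases c.spec.cent_prime Nat.prime_three (hoy ▸ dvd_rfl) hr hrC with e | e | e
        · exact h3a (e ▸ hra)
        · exact h3a (dvd_of_mul_right_dvd e)
        · exact c.spec.not_a_b hr hra (dvd_of_mul_left_dvd e)
      have hW1 : u₁ * w ≠ 1 := fun e => by
        rw [e, one_mul, inv_one, mul_one] at hR
        exact hne (eq_inv_iff_mul_eq_one.1 hR)
      have hWo := orderOf_eq_two hW2 hW1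
      refine Finset.mem_filter.2 ⟨hU.2 ⟨hWo, fun hWM => ?_⟩, hR⟩
      have hWH := hinvM _ hWM hWo
      -- modulo `H` the element `y₁` would be its own inverse
      have h : u₁ * w * (y₁ * (u₁ * w)⁻¹ * y₁⁻¹) ∈ H :=
        H.mul_mem hWH ((Subgroup.mem_normalizer_iff.1 hy₁'.1 _).1 (H.inv_mem hWH))
      rw [show u₁ * w * (y₁ * (u₁ * w)⁻¹ * y₁⁻¹) = u₁ * w * y₁ * (u₁ * w)⁻¹ * y₁⁻¹ by group, hR,
        ← mul_inv_rev, H.inv_mem_iff] at h
      apply hy₁'.2
      rw [show y₁ = (y₁ * y₁) ^ 2 by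
        rw [← pow_two, ← pow_mul, show 2 * 2 = 3 + 1 from rfl, pow_succ, hy13, one_mul]]
      exact H.pow_mem h 2
    · exact fun v w e => Subtype.ext (mul_left_cancel (congrArg Subtype.val e))
    · rintro ⟨u, hu⟩
      rw [Finset.mem_filter] at hu
      have hu' : u * y₁ * u⁻¹ = y₁⁻¹ := hu.2
      refine ⟨⟨u₁⁻¹ * u, Subgroup.mem_centralizer_singleton_iff.2 (mul_inv_eq_iff_eq_mul.1 ?_)⟩,
        Subtype.ext (mul_inv_cancel_left u₁ u)⟩
      calc u₁⁻¹ * u * y₁ * (u₁⁻¹ * u)⁻¹ = u₁⁻¹ * (u * y₁ * u⁻¹) * u₁ := by group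
        _ = y₁ := by rw [hu', ← hy₁u]; group
  have hcolconj : ∀ (y : G) (k : G), k ∈ M →
      {u ∈ U | R y u}.card = {u ∈ U | R (k * y * k⁻¹) u}.card := by
    intro y k hk
    have hmem : ∀ (y : G) (k : G), k ∈ M → ∀ u ∈ {u ∈ U | R y u},
        k * u * k⁻¹ ∈ {u ∈ U | R (k * y * k⁻¹) u} := by
      intro y k hk u hu
      rw [Finset.mem_filter, hU] at hu
      refine Finset.mem_filter.2 ⟨hU.2 ⟨by rw [orderOf_conj, hu.1.1], fun h => hu.1.2 ?_⟩, ?_⟩
      · simpa [mul_assoc] using M.mul_mem (M.mul_mem (M.inv_mem hk) h) hk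
      · change k * u * k⁻¹ * (k * y * k⁻¹) * (k * u * k⁻¹)⁻¹ = (k * y * k⁻¹)⁻¹
        calc k * u * k⁻¹ * (k * y * k⁻¹) * (k * u * k⁻¹)⁻¹ = k * (u * y * u⁻¹) * k⁻¹ := by group
          _ = k * y⁻¹ * k⁻¹ := by rw [hu.2]
          _ = _ := by group
    refine Finset.card_bij' (fun u _ => k * u * k⁻¹) (fun u _ => k⁻¹ * u * k) (hmem y k hk) ?_
      (fun u _ => by group) (fun u _ => by group)
    intro u hu
    have := hmem _ k⁻¹ (M.inv_mem hk) u hu
    rw [show k⁻¹ * (k * y * k⁻¹) * k⁻¹⁻¹ = y by group, inv_inv] at this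
    exact this
  have hy₁i : y₁⁻¹ ∈ Y := hY.2 ⟨M.inv_mem hy₁'.1, fun h => hy₁'.2 (H.inv_mem_iff.1 h)⟩
  have hcol : ∀ y ∈ Y, {u ∈ U | R y u}.card = cc := by
    intro y hy
    have hy' := hY.1 hy
    -- `y` is in the coset of `y₁` or of its inverse
    have hcos : y₁⁻¹ * y ∈ H ∨ y₁⁻¹⁻¹ * y ∈ H := by
      by_contra hno
      push Not at hno
      let h3 : Fin 4 → M ⧸ H.subgroupOf M := ![QuotientGroup.mk 1, QuotientGroup.mk ⟨y₁, hy₁'.1⟩,
        QuotientGroup.mk ⟨y₁⁻¹, M.inv_mem hy₁'.1⟩, QuotientGroup.mk ⟨y, hy'.1⟩]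
      have hne : ∀ {u v : G} {hu : u ∈ M} {hv : v ∈ M}, u⁻¹ * v ∉ H →
          (QuotientGroup.mk (⟨u, hu⟩ : M) : M ⧸ H.subgroupOf M) ≠ QuotientGroup.mk ⟨v, hv⟩ :=
        fun h e => h (by simpa [Subgroup.mem_subgroupOf] using QuotientGroup.eq.1 e)
      have hy11 : y₁⁻¹ * y₁⁻¹ ∉ H := by
        rw [← mul_inv_rev, H.inv_mem_iff]
        intro h
        apply hy₁'.2
        rw [show y₁ = (y₁ * y₁) ^ 2 by
          rw [← pow_two, ← pow_mul, show 2 * 2 = 3 + 1 from rfl, pow_succ, hy13, one_mul]]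
        exact H.pow_mem h 2
      have hinj : Function.Injective h3 := by
        have e01 := hne (hu := M.one_mem) (hv := hy₁'.1) (by simpa using hy₁'.2)
        have e02 := hne (hu := M.one_mem) (hv := M.inv_mem hy₁'.1) (u := 1) (v := y₁⁻¹) (by simpa using hy₁'.2)
        have e03 := hne (hu := M.one_mem) (hv := hy'.1) (by simpa using hy'.2)
        have e12 := hne (hu := hy₁'.1) (hv := M.inv_mem hy₁'.1) hy11
        have e13 := hne (hu := hy₁'.1) (hv := hy'.1) hno.1
        have e23 := hne (hu := M.inv_mem hy₁'.1) (hv := hy'.1) hno.2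
        intro i j e
        fin_cases i <;> fin_cases j <;> first
          | rfl
          | exact absurd e e01 | exact absurd e e02 | exact absurd e e03
          | exact absurd e e12 | exact absurd e e13 | exact absurd e e23
          | exact absurd e.symm e01 | exact absurd e.symm e02 | exact absurd e.symm e03
          | exact absurd e.symm e12 | exact absurd e.symm e13 | exact absurd e.symm e23
      have := Nat.card_le_card_of_injective h3 hinj
      rw [Nat.card_fin, ← Subgroup.index, hidx] at this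
      omega
    rcases hcos with h | h
    · obtain ⟨k, hk, rfl⟩ := hconjY y₁ hy₁Y y hy h
      rw [← hcolconj y₁ k (hHM hk), hcol₁]
    · obtain ⟨k, hk, rfl⟩ := hconjY y₁⁻¹ hy₁i y hy h
      rw [← hcolconj y₁⁻¹ k (hHM hk), ← hcol₁]
      congr 1
      refine Finset.filter_congr fun u _ => ?_
      simp only [R]
      rw [show u * y₁⁻¹ * u⁻¹ = (u * y₁ * u⁻¹)⁻¹ by group, inv_inj]
  have hYcard : Y.card = 4 * a := by
    have h : Y = (M : Set G).toFinite.toFinset \ (H : Set G).toFinite.toFinset := by ext; simp [hY]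
    rw [h, Finset.card_sdiff_of_subset (by intro v; simpa using @hHM v)]
    have e1 : (M : Set G).toFinite.toFinset.card = Nat.card M := by
      rw [← Set.ncard_eq_toFinset_card]; rfl
    have e2 : (H : Set G).toFinite.toFinset.card = Nat.card H := by
      rw [← Set.ncard_eq_toFinset_card]; rfl
    rw [e1, e2, hcardM, c.card_H]
    omega
  have hUcard : U.card + 3 = q * b := by
    have h := Finset.card_filter_add_card_filter_not (s := Inv) (fun v : G => v ∈ M)
    have e : {v ∈ Inv | v ∈ M} = {v ∈ Inv | π v = π 1} := Finset.filter_congr fun v _ => by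
      rw [QuotientGroup.eq, mul_one, M.inv_mem_iff]
    rw [e, hexact, hInvcard] at h
    have eU : U.card = {v ∈ Inv | ¬ v ∈ M}.card := by convert rfl
    omega
  have hdouble := Finset.sum_card_bipartiteAbove_eq_sum_card_bipartiteBelow (s := Y) (t := U) R
  simp only [Finset.bipartiteAbove, Finset.bipartiteBelow] at hdouble
  rw [Finset.sum_congr rfl (g := fun _ => cc) (fun y hy => hcol y hy),
    Finset.sum_congr rfl (g := fun _ => 2) (fun u hu => hrow u hu),
    Finset.sum_const, Finset.sum_const, smul_eq_mul, smul_eq_mul, hYcard] at hdouble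
  -- arithmetic
  have h3c : 3 ∣ cc := hoy ▸ Subgroup.orderOf_dvd_natCard _ (Subgroup.mem_centralizer_singleton_iff.2 rfl)
  have hcqb : cc ∣ q * b := by
    have h3G : 3 ∣ Nat.card G := hoy ▸ orderOf_dvd_natCard y₁
    rcases c.spec.prime_cases Nat.prime_three h3G with e | e | e
    · exact absurd e h3a
    · exact (c.spec.cent_dvd_b Nat.prime_three (hoy ▸ dvd_rfl) e).trans (dvd_mul_left b q)
    · subst e
      exact (c.spec.cent_dvd_q (hoy ▸ dvd_rfl)).trans (dvd_mul_right q b)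
  have hmain : q * b = 3 + 2 * a * cc := by
    have e : 4 * a * cc = 2 * (2 * a * cc) := by ring
    omega
  have hc3 : cc = 3 := by
    have h := (Nat.dvd_add_left (dvd_mul_left cc (2 * a))).1 (hmain ▸ hcqb)
    exact Nat.dvd_antisymm h h3c
  rw [hc3, c.spec.sum] at hmain
  obtain ⟨k, hk⟩ := ho
  have := c.a_half
  have hb := c.spec.three_le_b
  obtain ⟨l, hl⟩ := c.spec.odd
  rcases Nat.lt_or_ge b 7 with hb7 | hb7
  · rcases c.spec.near with e | e <;> interval_cases b <;> omega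
  · have := Nat.mul_le_mul_left (a + b) hb7
    omega

end

end CfsgLib.Characterizations.PSL2Spectrum.Cfg
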