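import Cfsg.Agent.Lib.Characterizations.PSL2Spectrum.Basic
import Cfsg.Agent.Lib.Involution.Dihedral
import Cfsg.Agent.Lib.Fusion.Transfer

/-!
# The centraliser of an involution
-/

set_option autoImplicit false
set_option linter.unusedSectionVars false
set_option linter.style.haveILetI false
set_option linter.unusedTactic false

open CfsgLib.Involution.Dihedral

namespace CfsgLib.Characterizations.PSL2Spectrum

variable {G : Type*} [Group G] [Finite G]

/-- An element `x` of order `a`, its involution `t`, and another conjugate `s` centralising `t`. -/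
structure Cfg (p f q a b : ℕ) (x t s g : G) : Prop where
  spec : Spec G p f q a b
  ord : orderOf x = a
  t_def : x ^ (a / 2) = t
  s_def : g * t * g⁻¹ = s
  comm : Commute t s
  ne : s ≠ t

theorem Spec.exists_cfg.{u} {G : Type u} [Group G] [Finite G] {p f q a b : ℕ}
    (h : Spec G p f q a b) : ∃ x t s g : G, Cfg p f q a b x t s g := by
  obtain ⟨x, hx⟩ := h.exists_order_a
  have h2 := h.two_le_a
  obtain ⟨k, hk⟩ := h.even
  have ht : orderOf (x ^ (a / 2)) = 2 := by
    rw [orderOf_pow_of_dvd (by omega) (by rw [hx]; exact ⟨2, by omega⟩), hx]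
    exact Nat.div_eq_of_eq_mul_left (by omega) (by omega)
  obtain ⟨g, hc, hne⟩ := h.exists_conj ht
  exact ⟨x, _, _, g, h, hx, rfl, rfl, hc, hne⟩

namespace Cfg

variable {p f q a b : ℕ} {x t s g : G}

section
variable (c : Cfg p f q a b x t s g)
include c

theorem a_half : a = a / 2 + a / 2 := by
  obtain ⟨k, hk⟩ := c.spec.even
  omega

theorem a_pos : 0 < a := by have := c.spec.two_le_a; omega

theorem ord_t : orderOf t = 2 := by
  have h := c.a_half; have := c.a_pos
  rw [← c.t_def, orderOf_pow_of_dvd (by omega) (by rw [c.ord]; exact ⟨2, by omega⟩), c.ord]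
  exact Nat.div_eq_of_eq_mul_left (by omega) (by omega)

theorem ord_s : orderOf s = 2 := by rw [← c.s_def, orderOf_conj, c.ord_t]

theorem tt : t * t = 1 := mul_self c.ord_t

theorem ss : s * s = 1 := mul_self c.ord_s

theorem card_X : Nat.card (Subgroup.zpowers x) = a := by rw [Nat.card_zpowers, c.ord]

theorem t_mem : t ∈ Subgroup.zpowers x := c.t_def ▸ Subgroup.npow_mem_zpowers x (a / 2)

theorem comm_X {y z : G} (hy : y ∈ Subgroup.zpowers x) (hz : z ∈ Subgroup.zpowers x) :
    Commute y z := by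
  obtain ⟨i, rfl⟩ := hy
  obtain ⟨j, rfl⟩ := hz
  exact (Commute.refl x).zpow_zpow i j

theorem X_le : Subgroup.zpowers x ≤ Subgroup.centralizer ({t} : Set G) := fun _ hy =>
  Subgroup.mem_centralizer_singleton_iff.2 (c.comm_X hy c.t_mem).eq

theorem s_mem : s ∈ Subgroup.centralizer ({t} : Set G) :=
  Subgroup.mem_centralizer_singleton_iff.2 c.comm.eq.symm

theorem dvd_two {i : ℤ} (hi : (a : ℤ) ∣ i) : Even i := by
  obtain ⟨k, hk⟩ := c.spec.even
  exact even_iff_two_dvd.2 (dvd_trans (show (2 : ℤ) ∣ (a : ℤ) from ⟨(k : ℤ), by omega⟩) hi)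

theorem unique_inv {y : G} (hy : y ∈ Subgroup.zpowers x) (h2 : y * y = 1) : y = 1 ∨ y = t := by
  obtain ⟨i, rfl⟩ := hy
  simp only at h2 ⊢
  rw [← zpow_add, ← orderOf_dvd_iff_zpow_eq_one, c.ord] at h2
  obtain ⟨k, hk⟩ := h2
  have e : (a : ℤ) = ((a / 2 : ℕ) : ℤ) + ((a / 2 : ℕ) : ℤ) := by exact_mod_cast c.a_half
  have hi : i = ((a / 2 : ℕ) : ℤ) * k := by
    have : 2 * i = 2 * (((a / 2 : ℕ) : ℤ) * k) := by linear_combination hk + k * e
    omega
  rw [hi, zpow_mul, zpow_natCast, c.t_def]
  rcases Int.even_or_odd k with ⟨m, rfl⟩ | ⟨m, rfl⟩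
  · left
    rw [← two_mul, zpow_mul, zpow_ofNat, pow_two, c.tt, one_zpow]
  · right
    rw [zpow_add, zpow_mul, zpow_ofNat, pow_two, c.tt, one_zpow, one_mul, zpow_one]

theorem s_not_mem : s ∉ Subgroup.zpowers x := fun h => by
  rcases c.unique_inv h c.ss with e | e
  · exact ne_one c.ord_s e
  · exact c.ne e

theorem card_H : Nat.card (Subgroup.centralizer ({t} : Set G)) = 2 * a := by
  have h1 := c.spec.cent_dvd_a Nat.prime_two c.ord_t.symm.dvd c.spec.even.two_dvd
  obtain ⟨m, hm⟩ := c.card_X ▸ Subgroup.card_dvd_of_le c.X_le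
  rw [hm] at h1
  have hm2 : m ∣ 2 := Nat.dvd_of_mul_dvd_mul_left c.a_pos (by rwa [mul_comm 2 a] at h1)
  rcases (Nat.dvd_prime Nat.prime_two).1 hm2 with rfl | rfl
  · exfalso
    have := Subgroup.eq_of_le_of_card_ge c.X_le (by rw [hm, mul_one, c.card_X])
    exact c.s_not_mem (this ▸ c.s_mem)
  · rw [hm, mul_comm]

theorem relIndex_X :
    ((Subgroup.zpowers x).subgroupOf (Subgroup.centralizer ({t} : Set G))).index = 2 := by
  have h := Subgroup.card_mul_index ((Subgroup.zpowers x).subgroupOf (Subgroup.centralizer ({t} : Set G)))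
  rw [Nat.card_congr (Subgroup.subgroupOfEquivOfLe c.X_le).toEquiv, c.card_X, c.card_H] at h
  exact Nat.eq_of_mul_eq_mul_left c.a_pos (h.trans (mul_comm _ _))

theorem mem_X_iff {u v : G} (hu : u ∈ Subgroup.centralizer ({t} : Set G))
    (hv : v ∈ Subgroup.centralizer ({t} : Set G)) :
    u * v ∈ Subgroup.zpowers x ↔ (u ∈ Subgroup.zpowers x ↔ v ∈ Subgroup.zpowers x) := by
  have := Subgroup.mul_mem_iff_of_index_two c.relIndex_X (a := ⟨u, hu⟩) (b := ⟨v, hv⟩)
  simpa [Subgroup.mem_subgroupOf] using this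

theorem sq_mem {u : G} (hu : u ∈ Subgroup.centralizer ({t} : Set G)) :
    u * u ∈ Subgroup.zpowers x := (c.mem_X_iff hu hu).2 Iff.rfl

/-- The shape of an element of the centraliser. -/
theorem mem_H {u : G} (hu : u ∈ Subgroup.centralizer ({t} : Set G)) :
    ∃ i : ℤ, u = x ^ i ∨ u = x ^ i * s := by
  by_cases h : u ∈ Subgroup.zpowers x
  · obtain ⟨i, rfl⟩ := h
    exact ⟨i, Or.inl rfl⟩
  · obtain ⟨i, hi⟩ := (c.mem_X_iff hu c.s_mem).2 (iff_of_false h c.s_not_mem)
    refine ⟨i, Or.inr ?_⟩
    simp only at hi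
    rw [hi, mul_assoc, c.ss, mul_one]

theorem odd_mem {u : G} (hu : u ∈ Subgroup.centralizer ({t} : Set G)) (ho : Odd (orderOf u)) :
    u ∈ Subgroup.zpowers x := by
  obtain ⟨k, hk⟩ := ho
  have : u = (u * u) ^ (k + 1) := by
    rw [← pow_two, ← pow_mul, show 2 * (k + 1) = orderOf u + 1 by omega, pow_add, pow_orderOf_eq_one,
      one_mul, pow_one]
  rw [this]
  exact pow_mem (c.sq_mem hu) _

/-- An element of order four of `X` does not centralise `s`. -/
theorem no_four {w : G} (hw : w ∈ Subgroup.zpowers x) (h4 : orderOf w = 4) : ¬ Commute w s := by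
  intro hc
  have hs : g⁻¹ * w * g ∈ Subgroup.centralizer ({t} : Set G) := by
    rw [Subgroup.mem_centralizer_singleton_iff]
    have e : t = g⁻¹ * s * g := by rw [← c.s_def]; group
    rw [e]
    calc g⁻¹ * w * g * (g⁻¹ * s * g) = g⁻¹ * (w * s) * g := by group
      _ = g⁻¹ * (s * w) * g := by rw [hc.eq]
      _ = g⁻¹ * s * g * (g⁻¹ * w * g) := by group
  have h2 := c.sq_mem hs
  have hww : w * w = t := by
    rcases c.unique_inv (mul_mem hw hw) (by
      rw [← pow_two, ← pow_two, ← pow_mul, show 2 * 2 = orderOf w from h4.symm]; exact pow_orderOf_eq_one w) with e | e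
    · exfalso
      have := orderOf_dvd_of_pow_eq_one (x := w) (n := 2) (by rw [pow_two]; exact e)
      rw [h4] at this; omega
    · exact e
  have e2 : g⁻¹ * w * g * (g⁻¹ * w * g) = g⁻¹ * t * g := by rw [← hww]; group
  rw [e2] at h2
  rcases c.unique_inv h2 (by
    rw [show g⁻¹ * t * g * (g⁻¹ * t * g) = g⁻¹ * (t * t) * g by group, c.tt]; group) with e | e
  · exact ne_one c.ord_t (by
      calc t = g * (g⁻¹ * t * g) * g⁻¹ := by group
        _ = 1 := by rw [e]; group)
  · apply c.ne
    rw [← c.s_def]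
    calc g * t * g⁻¹ = g * (g⁻¹ * t * g) * g⁻¹ := by rw [e]
      _ = t := by group

/-- If `s` does not centralise `X`, it fixes only `t`. -/
theorem fix (hnc : ¬ Commute x s) {z : G} (hz : z ∈ Subgroup.zpowers x) (hzs : Commute z s) :
    z = 1 ∨ z = t := by
  by_contra hno
  push Not at hno
  have hz2 : z * z ≠ 1 := fun e => (c.unique_inv hz e).elim hno.1 hno.2
  set w := z * z with hw
  have hwX : w ∈ Subgroup.zpowers x := mul_mem hz hz
  have hws : Commute w s := hzs.mul_left hzs
  have hodd : Odd (orderOf w) := by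
    rw [← Nat.not_even_iff_odd]
    intro he
    have h4 : 4 ∣ orderOf z := by
      have hd : orderOf w = orderOf z / Nat.gcd (orderOf z) 2 := by rw [hw, ← pow_two, orderOf_pow]
      rcases Nat.even_or_odd (orderOf z) with he2 | ho
      · rw [Nat.gcd_eq_right he2.two_dvd] at hd
        obtain ⟨k, hk⟩ := he2; obtain ⟨l, hl⟩ := he
        exact ⟨l, by omega⟩
      · rw [Nat.Coprime.gcd_eq_one ((Nat.coprime_two_right).2 ho), Nat.div_one] at hd
        exact absurd (hd ▸ he) (Nat.not_even_iff_odd.2 ho)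
    obtain ⟨k, hk⟩ := h4
    have hk0 : k ≠ 0 := fun e => (orderOf_pos z).ne' (by rw [hk, e, mul_zero])
    refine c.no_four (w := z ^ k) (pow_mem hz _) ?_ (hzs.pow_left k)
    rw [orderOf_pow_of_dvd hk0 ⟨4, by rw [hk, mul_comm]⟩, hk,
      Nat.mul_div_cancel _ (Nat.pos_of_ne_zero hk0)]
  obtain ⟨r, hr, hrw⟩ := Nat.exists_prime_and_dvd (n := orderOf w) (fun e => hz2 (orderOf_eq_one_iff.1 e))
  have hra : r ∣ a := hrw.trans (by
    rw [← c.card_X]; exact Subgroup.orderOf_dvd_natCard _ hwX)
  have hCw : Subgroup.centralizer ({w} : Set G) = Subgroup.centralizer ({t} : Set G) := by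
    refine (Subgroup.eq_of_le_of_card_ge ?_ ?_).symm
    · intro u hu
      obtain ⟨i, rfl | rfl⟩ := c.mem_H hu
      · exact Subgroup.mem_centralizer_singleton_iff.2
          (c.comm_X (zpow_mem (Subgroup.mem_zpowers x) i) hwX).eq
      · exact Subgroup.mem_centralizer_singleton_iff.2
          ((c.comm_X (zpow_mem (Subgroup.mem_zpowers x) i) hwX).mul_left hws.symm).eq
    · rw [c.card_H]
      exact Nat.le_of_dvd (by have := c.a_pos; omega) (c.spec.cent_dvd_a hr hrw hra)
  have hgw : g⁻¹ * w * g ∈ Subgroup.zpowers x := by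
    refine c.odd_mem ?_ ?_
    · rw [Subgroup.mem_centralizer_singleton_iff]
      have e : t = g⁻¹ * s * g := by rw [← c.s_def]; group
      rw [e]
      calc g⁻¹ * w * g * (g⁻¹ * s * g) = g⁻¹ * (w * s) * g := by group
        _ = g⁻¹ * (s * w) * g := by rw [hws.eq]
        _ = g⁻¹ * s * g * (g⁻¹ * w * g) := by group
    · rwa [show g⁻¹ * w * g = g⁻¹ * w * g⁻¹⁻¹ by group, orderOf_conj]
  set y := g * x * g⁻¹ with hy
  have hyH : y ∈ Subgroup.centralizer ({t} : Set G) := by
    rw [← hCw, Subgroup.mem_centralizer_singleton_iff]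
    calc y * w = g * (x * (g⁻¹ * w * g)) * g⁻¹ := by rw [hy]; group
      _ = g * ((g⁻¹ * w * g) * x) * g⁻¹ := by rw [(c.comm_X (Subgroup.mem_zpowers x) hgw).eq]
      _ = w * y := by rw [hy]; group
  have hys : y ^ (a / 2) = s := by rw [hy, _root_.conj_pow, c.t_def, c.s_def]
  have hy2s : Commute (y * y) s := by
    rw [← hys]; exact ((Commute.refl y).mul_left (Commute.refl y)).pow_right _
  rcases Nat.even_or_odd (a / 2) with ⟨k, hk⟩ | hko
  · apply c.s_not_mem
    rw [← hys, hk, pow_add]
    exact c.sq_mem (pow_mem hyH _)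
  · -- `s` centralises `⟨x²⟩`, hence `X`
    have hord : orderOf (y * y) = a / 2 := by
      have := c.a_half
      rw [← pow_two, orderOf_pow_of_dvd two_ne_zero, hy, orderOf_conj, c.ord]
      rw [hy, orderOf_conj, c.ord]; exact c.spec.even.two_dvd
    have hle : Subgroup.zpowers (y * y) ≤ Subgroup.zpowers (x ^ 2) := by
      rw [Subgroup.zpowers_le]
      obtain ⟨i, hi⟩ := c.sq_mem hyH
      simp only at hi
      have h1 : x ^ (i * ((a / 2 : ℕ) : ℤ)) = 1 := by
        rw [zpow_mul, hi, zpow_natCast, ← hord, pow_orderOf_eq_one]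
      rw [← orderOf_dvd_iff_zpow_eq_one, c.ord] at h1
      obtain ⟨m, hm⟩ := h1
      have e : (a : ℤ) = ((a / 2 : ℕ) : ℤ) + ((a / 2 : ℕ) : ℤ) := by exact_mod_cast c.a_half
      have h2 : ((a / 2 : ℕ) : ℤ) ≠ 0 := by
        have := c.a_half; have := c.a_pos
        exact_mod_cast (by omega : a / 2 ≠ 0)
      have him : i = 2 * m := by
        apply mul_right_cancel₀ h2
        rw [hm]; linear_combination m * e
      refine ⟨m, ?_⟩
      simp only
      rw [← zpow_natCast, ← zpow_mul, show ((2 : ℕ) : ℤ) * m = i by push_cast; omega, hi]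
    have heq : Subgroup.zpowers (y * y) = Subgroup.zpowers (x ^ 2) := by
      refine Subgroup.eq_of_le_of_card_ge hle ?_
      rw [Nat.card_zpowers, Nat.card_zpowers, hord, orderOf_pow_of_dvd two_ne_zero, c.ord]
      rw [c.ord]; exact c.spec.even.two_dvd
    have hx2 : Commute (x ^ 2) s := by
      obtain ⟨m, hm⟩ := (heq.symm ▸ Subgroup.mem_zpowers (x ^ 2) : x ^ 2 ∈ Subgroup.zpowers (y * y))
      simp only at hm
      exact hm ▸ hy2s.zpow_left m
    obtain ⟨k, hk⟩ := hko
    apply hnc
    have : x * (x ^ 2) ^ k = t := by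
      rw [← pow_mul, ← pow_succ', ← c.t_def, hk]
    rw [eq_mul_inv_of_mul_eq this]
    exact c.comm.mul_left (hx2.pow_left k).inv_left

/-- `s` centralises `X`, inverts it, or inverts it up to `t`. -/
theorem trichotomy :
    (Commute x s ∧ Odd (a / 2) ∧ 2 < a) ∨ s * x * s⁻¹ = x⁻¹ ∨
      (s * x * s⁻¹ = x⁻¹ * t ∧ Even (a / 4) ∧ 4 ∣ a) := by
  have h := c.a_half
  by_cases hc : Commute x s
  · by_cases h2 : a ≤ 2
    · refine Or.inr (Or.inl ?_)
      have hxt : x = t := by
        rw [← c.t_def, show a / 2 = 1 by have := c.spec.two_le_a; omega, pow_one]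
      rw [← hc.eq, mul_inv_cancel_right, hxt, inv_eq c.ord_t]
    · refine Or.inl ⟨hc, ?_, by omega⟩
      rw [← Nat.not_even_iff_odd]
      rintro ⟨k, hk⟩
      refine c.no_four (w := x ^ k) ⟨k, by simp⟩ ?_ (hc.pow_left k)
      rw [orderOf_pow_of_dvd (by omega) ⟨4, by rw [c.ord]; omega⟩, c.ord]
      exact Nat.div_eq_of_eq_mul_left (by omega) (by omega)
  · set y := s * x * s⁻¹ with hy
    have hyH : y ∈ Subgroup.zpowers x := by
      have h1 : s * x ∈ Subgroup.centralizer ({t} : Set G) :=
        mul_mem c.s_mem (c.X_le (Subgroup.mem_zpowers x))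
      rw [hy, c.mem_X_iff h1 (inv_mem c.s_mem),
        c.mem_X_iff c.s_mem (c.X_le (Subgroup.mem_zpowers x))]
      simp [c.s_not_mem, Subgroup.mem_zpowers]
    have hfix : Commute (x * y) s := by
      have e : s * y * s⁻¹ = x := by
        rw [hy, inv_eq c.ord_s]
        calc s * (s * x * s) * s = (s * s) * x * (s * s) := by group
          _ = x := by rw [c.ss, one_mul, mul_one]
      have e2 : s * (x * y) * s⁻¹ = x * y := by
        calc s * (x * y) * s⁻¹ = (s * x * s⁻¹) * (s * y * s⁻¹) := by group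
          _ = y * x := by rw [e, hy]
          _ = x * y := (c.comm_X hyH (Subgroup.mem_zpowers x)).eq
      exact (mul_inv_eq_iff_eq_mul.1 e2).symm
    rcases c.fix hc (mul_mem (Subgroup.mem_zpowers x) hyH) hfix with e | e
    · exact Or.inr (Or.inl (eq_inv_of_mul_eq_one_right e))
    · refine Or.inr (Or.inr ?_)
      have hy2 : y = x⁻¹ * t := eq_inv_mul_of_mul_eq e
      have hst : s * t * s⁻¹ = t := by rw [← c.comm.eq, mul_inv_cancel_right]
      have hpow : ∀ k : ℕ, s * x ^ k * s⁻¹ = (x ^ k)⁻¹ * t ^ k := fun k => by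
        rw [← _root_.conj_pow, ← hy, hy2,
          ((c.comm_X (Subgroup.mem_zpowers x) c.t_mem).inv_left).mul_pow, inv_pow]
      have h2 := hpow (a / 2)
      rw [c.t_def, hst, inv_eq c.ord_t] at h2
      have he : Even (a / 2) := by
        rw [← Nat.not_odd_iff_even]
        rintro ⟨k, hk⟩
        rw [hk, pow_succ, pow_mul, pow_two, c.tt, one_pow, one_mul, c.tt] at h2
        exact ne_one c.ord_t h2
      obtain ⟨k, hk⟩ := he
      refine ⟨hy2, ?_, ⟨k, by omega⟩⟩
      rw [show a / 4 = k by omega, ← Nat.not_odd_iff_even]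
      rintro ⟨m, hm⟩
      have hk4 : orderOf (x ^ k) = 4 := by
        rw [orderOf_pow_of_dvd (by omega) ⟨4, by rw [c.ord]; omega⟩, c.ord]
        exact Nat.div_eq_of_eq_mul_left (by omega) (by omega)
      refine c.no_four (w := x ^ k) ⟨k, by simp⟩ hk4 ?_
      have h3 : s * x ^ k * s⁻¹ = (x ^ k)⁻¹ * t := by
        rw [hpow k, hm, pow_succ t, pow_mul t, pow_two, c.tt, one_pow, one_mul]
      rw [← c.t_def, hk, pow_add, inv_mul_cancel_left] at h3
      exact (mul_inv_eq_iff_eq_mul.1 h3).symm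

/-- A Sylow 2-subgroup when `a / 2` is odd, and fusion in it. -/
theorem exists_three_cycle (ho : Odd (a / 2)) :
    ∃ n : G, n * t * n⁻¹ = s ∧ n * s * n⁻¹ = t * s ∧ n * (t * s) * n⁻¹ = t := by
  haveI : Fact (Nat.Prime 2) := ⟨Nat.prime_two⟩
  have e : t * s = s * t := c.comm.eq
  let T : Subgroup G :=
    { carrier := {u | u = 1 ∨ u = t ∨ u = s ∨ u = t * s}
      one_mem' := Or.inl rfl
      mul_mem' := by
        rintro u v (rfl | rfl | rfl | rfl) (rfl | rfl | rfl | rfl)
        all_goals simp only [Set.mem_ofPred_eq, one_mul, mul_one, c.tt, c.ss, true_or, or_true]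
        all_goals first
          | (left; exact c.tt) | (left; exact c.ss)
          | (right; right; left; rw [← mul_assoc, c.tt, one_mul]; done)
          | (right; right; right; exact e.symm)
          | (right; left; rw [← mul_assoc, ← e, mul_assoc, c.ss, mul_one]; done)
          | (right; right; left; rw [e, mul_assoc, c.tt, mul_one]; done)
          | (right; left; rw [mul_assoc, c.ss, mul_one]; done)
          | (left; rw [← mul_assoc, mul_assoc t, ← e, ← mul_assoc, c.tt, one_mul, c.ss]; done)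
      inv_mem' := by
        rintro u (rfl | rfl | rfl | rfl)
        · exact Or.inl inv_one
        · exact Or.inr (Or.inl (inv_eq c.ord_t))
        · exact Or.inr (Or.inr (Or.inl (inv_eq c.ord_s)))
        · exact Or.inr (Or.inr (Or.inr (by rw [mul_inv_rev, inv_eq c.ord_t, inv_eq c.ord_s, e]))) }
  have ht1 := ne_one c.ord_t
  have hs1 := ne_one c.ord_s
  have hts : t * s ≠ 1 := fun h => c.ne (by rw [← inv_eq c.ord_t]; exact eq_inv_of_mul_eq_one_right h)
  have hts2 : t * s ≠ t ∧ t * s ≠ s := ⟨by simp [hs1], by simp [ht1]⟩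
  have hcard : Nat.card T = 4 := by
    classical
    have : (T : Set G) = ↑({1, t, s, t * s} : Finset G) := by ext u; simp [T]
    rw [← SetLike.coe_sort_coe, this, Nat.card_coe_set_eq, Set.ncard_coe_finset,
      Finset.card_insert_of_notMem (by simp [ht1.symm, hs1.symm, hts.symm]),
      Finset.card_insert_of_notMem (by simp [c.ne.symm, hts2.1.symm]),
      Finset.card_insert_of_notMem (by simp [hts2.2.symm]), Finset.card_singleton]
  have hv : (Nat.card G).factorization 2 = 2 := by
    have hodd : ¬ 2 ∣ q * (a / 2) * b := by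
      rw [← even_iff_two_dvd, Nat.not_even_iff_odd]
      exact (c.spec.odd_q.mul ho).mul c.spec.odd
    rw [c.spec.card, show 2 * q * a * b = 2 ^ 2 * (q * (a / 2) * b) by
      conv_lhs => rw [c.a_half]
      ring, Nat.factorization_mul (by norm_num) (fun h => hodd (by simp [h])),
      Finsupp.add_apply, Nat.Prime.factorization_pow Nat.prime_two, Finsupp.single_eq_same,
      Nat.factorization_eq_zero_of_not_dvd hodd]
  let P : Sylow 2 G := Sylow.ofCard T (by rw [hcard, hv]; norm_num)
  have hcT : ∀ w : G, w = t ∨ w = s → w ∈ Subgroup.centralizer (T : Set G) := by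
    intro w hw u hu
    rcases hu with rfl | rfl | rfl | rfl <;> rcases hw with rfl | rfl
    · exact Commute.one_left _
    · exact Commute.one_left _
    · exact Commute.refl _
    · exact c.comm
    · exact c.comm.symm
    · exact Commute.refl _
    · exact (Commute.refl _).mul_left c.comm.symm
    · exact c.comm.mul_left (Commute.refl _)
  obtain ⟨n, hn, hne⟩ := CfsgLib.Fusion.Transfer.burnside_central P (x := t) (y := s)
    (hcT t (Or.inl rfl))
    (hcT s (Or.inr rfl)) ⟨g, c.s_def⟩
  have hmap : ∀ u : G, u ∈ T → n * u * n⁻¹ ∈ T := fun u hu =>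
    ((Subgroup.mem_normalizer_iff.1 hn u).1 hu : n * u * n⁻¹ ∈ T)
  have hinj : ∀ u v : G, n * u * n⁻¹ = n * v * n⁻¹ → u = v := fun u v huv => by simpa using huv
  have hns : n * s * n⁻¹ = t * s := by
    rcases hmap s (Or.inr (Or.inr (Or.inl rfl))) with e1 | e1 | e1 | e1
    · exact absurd (hinj s 1 (e1.trans (by group))) hs1
    · exfalso
      -- `n` swaps `t` and `s`, hence so does an odd power, which lies in the Sylow subgroup
      obtain ⟨k, m, hm, hk⟩ := Nat.exists_eq_two_pow_mul_odd (orderOf_pos n).ne'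
      have hsw : ∀ j : ℕ, Odd j → n ^ j * t * (n ^ j)⁻¹ = s := by
        rintro j ⟨i, rfl⟩
        induction i with
        | zero => simpa using hne
        | succ i ih =>
          rw [show 2 * (i + 1) + 1 = 2 + (2 * i + 1) by ring, pow_add, mul_inv_rev, pow_two, mul_inv_rev]
          calc n * n * n ^ (2 * i + 1) * t * ((n ^ (2 * i + 1))⁻¹ * (n⁻¹ * n⁻¹))
              = n * (n * (n ^ (2 * i + 1) * t * (n ^ (2 * i + 1))⁻¹) * n⁻¹) * n⁻¹ := by group
            _ = s := by rw [ih, e1, hne]
      have h2 : IsPGroup 2 (Subgroup.zpowers (n ^ m)) := by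
        rw [IsPGroup.iff_card]
        refine ⟨k, ?_⟩
        rw [Nat.card_zpowers, orderOf_pow_of_dvd (by rintro rfl; simp at hm) ⟨2 ^ k, by rw [hk, mul_comm]⟩,
          hk, Nat.mul_div_cancel _ (Nat.pos_of_ne_zero (by rintro rfl; simp at hm))]
      have hle : Subgroup.zpowers (n ^ m) ≤ T := by
        have hnm : Subgroup.zpowers (n ^ m) ≤ Subgroup.normalizer (T : Set G) :=
          (Subgroup.zpowers_le).2 (pow_mem (show n ∈ Subgroup.normalizer (T : Set G) from hn) m)
        have hTp : IsPGroup 2 T := IsPGroup.of_card (n := 2) (by rw [hcard]; norm_num)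
        have := IsPGroup.to_sup_of_normal_right' h2 hTp hnm
        have hmax := P.is_maximal' this (show T ≤ _ from le_sup_right)
        exact le_sup_left.trans (show _ ≤ T from hmax.le)
      have h3 := hsw m hm
      have h4 : Commute (n ^ m) t := hcT t (Or.inl rfl) _ (hle (Subgroup.mem_zpowers _))
      rw [h4.eq, mul_inv_cancel_right] at h3
      exact c.ne h3.symm
    · exact absurd (hinj s t (e1.trans hne.symm)) c.ne
    · exact e1
  refine ⟨n, hne, hns, ?_⟩
  calc n * (t * s) * n⁻¹ = (n * t * n⁻¹) * (n * s * n⁻¹) := by group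
    _ = t := by rw [hne, hns, e, ← mul_assoc, c.ss, one_mul]

end

end Cfg

end CfsgLib.Characterizations.PSL2Spectrum
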