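import Cfsg.Agent.Lib.Characterizations.PSL2Spectrum.Cases
import Cfsg.Agent.Lib.Characterizations.PSL2Spectrum.Counting
import Cfsg.Agent.Lib.Perm.ZGroup.PSL
import Cfsg.Agent.Lib.Perm.ZGroup.Simple
import Cfsg.Agent.S0731
import Cfsg.Prelude.Def_LieExceptional

/-!
# Recognition of `PSL(2, q)`, `q` odd, by order and element orders
-/

set_option autoImplicit false
set_option linter.unusedSectionVars false
set_option linter.style.haveILetI false

open CfsgLib.Involution.Dihedral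
open scoped Pointwise

namespace CfsgLib.Characterizations.PSL2Spectrum

variable {G : Type*} [Group G] [Finite G] {p f q a b : ℕ}

theorem Spec.of_equiv {Γ : Type*} [Group Γ] [Finite Γ] (h : Spec G p f q a b) (e : Γ ≃* G) :
    Spec Γ p f q a b :=
  { h with
    card := (Nat.card_congr e.toEquiv).trans h.card
    orders := fun m => by
      rw [← h.orders m]
      constructor
      · rintro ⟨x, hx⟩; exact ⟨e x, by rw [MulEquiv.orderOf_eq, hx]⟩
      · rintro ⟨x, hx⟩; exact ⟨e.symm x, by rw [MulEquiv.orderOf_eq, hx]⟩ }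

/-- The Zassenhaus group on the conjugates of `Q`. -/
theorem recognise_of_bsw (h : Spec G p f q a b) (Q D : Subgroup G) (hQ : Nat.card Q = q)
    (hcc : ∀ y ∈ Q, y ≠ 1 → Subgroup.centralizer ({y} : Set G) = Q)
    (hDab : IsMulCommutative ↥D) (hD : 2 * Nat.card ↥D + 1 = Nat.card ↥Q) (hQD : Q ⊓ D = ⊥)
    (hN : Subgroup.normalizer (Q : Set G) = Q ⊔ D)
    (hX : ∀ X : Subgroup G, X ≤ D → X ≠ ⊥ →
      Subgroup.normalizer (X : Set G) = Subgroup.normalizer (D : Set G) ∧
      ∃ u : G, orderOf u = 2 ∧ u ∉ D ∧ (∀ d ∈ D, u * d * u⁻¹ = d⁻¹) ∧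
        Subgroup.normalizer (D : Set G) = D ⊔ Subgroup.zpowers u) :
    ∃ (K : Type) (_ : Field K) (_ : Fintype K), Fintype.card K = q ∧
      Nonempty (G ≃* Matrix.ProjectiveSpecialLinearGroup (Fin 2) K) := by
  classical
  have h5 := h.five
  set N := Subgroup.normalizer (Q : Set G) with hNdef
  haveI : Fact p.Prime := ⟨h.prime⟩
  have hab : ∀ u ∈ Q, ∀ v ∈ Q, u * v = v * u := by
    intro u hu v hv
    by_cases hv1 : v = 1
    · rw [hv1, mul_one, one_mul]
    · exact Subgroup.mem_centralizer_singleton_iff.1 ((hcc v hv hv1).symm ▸ hu)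
  have hQN : Q ≤ N := Subgroup.le_normalizer
  have hDN : D ≤ N := hN ▸ le_sup_right
  have hd2 : 2 ≤ Nat.card D := by omega
  have hDne : D ≠ ⊥ := fun e => by rw [e, Subgroup.card_bot] at hd2; omega
  obtain ⟨-, u, hu2, huD, hinv, hND⟩ := hX D le_rfl hDne
  have hQDcop : (Nat.card Q).Coprime (Nat.card D) := by
    rw [← hD, Nat.coprime_mul_right_add_left]
    exact Nat.coprime_one_left _
  -- the order of the normaliser
  have hcardN : Nat.card N = q * Nat.card D := by
    haveI hnorm : (Q.subgroupOf N).Normal := Subgroup.normal_in_normalizer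
    rw [← hQ, ← Nat.card_prod]
    refine (Nat.card_congr (Equiv.ofBijective
      (fun z : Q × D => (⟨z.1.1 * z.2.1, N.mul_mem (hQN z.1.2) (hDN z.2.2)⟩ : N)) ⟨?_, ?_⟩)).symm
    · rintro ⟨v, d⟩ ⟨v', d'⟩ e
      have e' : (v : G) * d = v' * d' := congrArg Subtype.val e
      have hm : (v' : G)⁻¹ * v ∈ Q ⊓ D :=
        ⟨Q.mul_mem (Q.inv_mem v'.2) v.2, by
          rw [show (v' : G)⁻¹ * v = d' * (d : G)⁻¹ by
            rw [eq_mul_inv_iff_mul_eq, mul_assoc, e']; group]
          exact D.mul_mem d'.2 (D.inv_mem d.2)⟩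
      rw [hQD, Subgroup.mem_bot, inv_mul_eq_one] at hm
      refine Prod.ext (Subtype.ext hm.symm) (Subtype.ext ?_)
      rw [hm] at e'
      exact mul_left_cancel e'
    · rintro ⟨w, hw⟩
      have hw' : w ∈ (↑(Q ⊔ D) : Set G) := hN ▸ hw
      rw [Subgroup.coe_mul_of_right_le_normalizer_left Q D hDN] at hw'
      obtain ⟨v, hv, d, hd, rfl⟩ := hw'
      exact ⟨(⟨v, hv⟩, ⟨d, hd⟩), rfl⟩
  have hqab : (q + 1) * (q - 1) = 4 * (a * b) := by
    rcases h.near with e | e <;> subst e <;> rw [h.sum]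
    · rw [show a + (a + 1) - 1 = 2 * a by omega]; ring
    · rw [show b + 1 + b - 1 = 2 * b by omega]; ring
  have hindex : Nat.card (G ⧸ N) = q + 1 := by
    have e := Subgroup.card_mul_index N
    rw [hcardN, h.card] at e
    rw [← Subgroup.index]
    refine Nat.eq_of_mul_eq_mul_left (by positivity : 0 < q * (2 * Nat.card D)) ?_
    calc q * (2 * Nat.card D) * N.index = 2 * (q * Nat.card D * N.index) := by ring
      _ = q * (4 * (a * b)) := by rw [e]; ring
      _ = q * (2 * Nat.card D) * (q + 1) := by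
          rw [← hqab, show 2 * Nat.card D = q - 1 by omega]; ring
  haveI : Finite (G ⧸ N) := inferInstance
  set x₀ : G ⧸ N := ((1 : G) : G ⧸ N)
  have hstab : MulAction.stabilizer G x₀ = N := MulAction.stabilizer_quotient N
  have hfixN : ∀ w : G, w ∈ N ↔ w • x₀ = x₀ := fun w =>
    (SetLike.ext_iff.1 hstab w).symm.trans MulAction.mem_stabilizer_iff
  have hfixconj : ∀ (w v : G), v • (w : G ⧸ N) = w ↔ w⁻¹ * v * w ∈ N := fun w v => by
    rw [MulAction.Quotient.smul_mk, QuotientGroup.eq, ← N.inv_mem_iff, smul_eq_mul]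
    group
  -- a `p`-element of `N` lies in `Q`
  have hpN : ∀ v ∈ N, orderOf v ∣ q → v ∈ Q := by
    intro v hv hvq
    haveI hnorm : (Q.subgroupOf N).Normal := Subgroup.normal_in_normalizer
    have h1 : orderOf (QuotientGroup.mk' (Q.subgroupOf N) ⟨v, hv⟩) ∣ q :=
      (orderOf_map_dvd _ _).trans (by rwa [Subgroup.orderOf_mk])
    have h2 : orderOf (QuotientGroup.mk' (Q.subgroupOf N) ⟨v, hv⟩) ∣ Nat.card D := by
      have e := Subgroup.card_mul_index (Q.subgroupOf N)
      rw [Nat.card_congr (Subgroup.subgroupOfEquivOfLe hQN).toEquiv, hQ, hcardN] at e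
      rw [← Nat.eq_of_mul_eq_mul_left (by omega : 0 < q) e, Subgroup.index]
      exact orderOf_dvd_natCard _
    have := Nat.eq_one_of_dvd_coprimes (hQ ▸ hQDcop) h1 h2
    rw [orderOf_eq_one_iff, QuotientGroup.mk'_apply, QuotientGroup.eq_one_iff,
      Subgroup.mem_subgroupOf] at this
    exact this
  -- a nontrivial element of `Q` fixes only `x₀`
  have hTI : ∀ v ∈ Q, v ≠ 1 → ∀ y : G ⧸ N, v • y = y → y = x₀ := by
    intro v hv hv1 y hy
    obtain ⟨w, rfl⟩ := QuotientGroup.mk_surjective y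
    rw [hfixconj] at hy
    have hwQ : w⁻¹ * v * w ∈ Q := hpN _ hy (by
      rw [show w⁻¹ * v * w = w⁻¹ * v * w⁻¹⁻¹ by group, orderOf_conj, ← hQ]
      exact Subgroup.orderOf_dvd_natCard _ hv)
    have hw1 : w⁻¹ * v * w ≠ 1 := fun e => hv1 (by
      calc v = w * (w⁻¹ * v * w) * w⁻¹ := by group
        _ = 1 := by rw [e]; group)
    refine QuotientGroup.eq.2 ?_
    rw [mul_one, N.inv_mem_iff, hNdef, Subgroup.mem_normalizer_iff]
    intro z
    rw [← hcc v hv hv1]
    conv_lhs => rw [hcc v hv hv1, ← hcc _ hwQ hw1]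
    rw [Subgroup.mem_centralizer_singleton_iff, Subgroup.mem_centralizer_singleton_iff]
    constructor
    · intro e
      calc w * z * w⁻¹ * v = w * (z * (w⁻¹ * v * w)) * w⁻¹ := by group
        _ = w * ((w⁻¹ * v * w) * z) * w⁻¹ := by rw [e]
        _ = v * (w * z * w⁻¹) := by group
    · intro e
      calc z * (w⁻¹ * v * w) = w⁻¹ * (w * z * w⁻¹ * v) * w := by group
        _ = w⁻¹ * (v * (w * z * w⁻¹)) * w := by rw [e]
        _ = w⁻¹ * v * w * z := by group
  -- `Q` is regular away from `x₀`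
  have hreg : ∀ y z : G ⧸ N, y ≠ x₀ → z ≠ x₀ → ∃! v : Q, (v : G) • y = z := by
    intro y z hy hz
    have hne : ∀ v : Q, (v : G) • y ≠ x₀ := fun v e => hy (by
      have e2 : y = (v : G)⁻¹ • x₀ := by rw [← e, inv_smul_smul]
      rw [e2, (hfixN _).1 (N.inv_mem (hQN v.2))])
    have hinj : Function.Injective (fun v : Q => (⟨(v : G) • y, hne v⟩ : {z : G ⧸ N // z ≠ x₀})) := by
      intro v v' e
      have e' : (v : G) • y = (v' : G) • y := congrArg Subtype.val e
      by_contra hvv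
      exact hy (hTI _ (Q.mul_mem (Q.inv_mem v'.2) v.2)
        (fun h1 => hvv (Subtype.ext (inv_mul_eq_one.1 h1).symm)) y (by rw [mul_smul, e', inv_smul_smul]))
    have hsurj := (Nat.bijective_iff_injective_and_card _).2 ⟨hinj, by
      haveI : Fintype (G ⧸ N) := Fintype.ofFinite _
      rw [hQ, Nat.card_eq_fintype_card, Fintype.card_subtype_compl, Fintype.card_subtype_eq,
        ← Nat.card_eq_fintype_card, hindex]
      rfl⟩
    obtain ⟨v, hv⟩ := hsurj.2 ⟨z, hz⟩
    exact ⟨v, congrArg Subtype.val hv, fun v' hv' => hinj (Subtype.ext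
      (hv'.trans (congrArg Subtype.val hv).symm))⟩
  have h2t : MulAction.IsMultiplyPretransitive G (G ⧸ N) 2 := by
    rw [MulAction.is_two_pretransitive_iff]
    intro y₁ y₂ z₁ z₂ hy hz
    obtain ⟨g₁, hg₁⟩ := MulAction.exists_smul_eq G y₁ x₀
    obtain ⟨g₂, hg₂⟩ := MulAction.exists_smul_eq G z₁ x₀
    obtain ⟨v, hv, -⟩ := hreg (g₁ • y₂) (g₂ • z₂)
      (fun e => hy (smul_left_cancel g₁ (hg₁.trans e.symm)))
      (fun e => hz (smul_left_cancel g₂ (hg₂.trans e.symm)))
    refine ⟨g₂⁻¹ * (v : G) * g₁, ?_, ?_⟩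
    · rw [mul_smul, mul_smul, hg₁, (hfixN _).1 (hQN v.2), ← hg₂, inv_smul_smul]
    · rw [mul_smul, mul_smul, hv, inv_smul_smul]
  -- the second point fixed by `D`
  have huN : u ∉ N := by
    intro hu
    have hle : Subgroup.normalizer (D : Set G) ≤ N :=
      hND ▸ sup_le hDN (Subgroup.zpowers_le.2 hu)
    have hlt : Nat.card D < Nat.card (Subgroup.normalizer (D : Set G)) := by
      by_contra hge
      have := Subgroup.eq_of_le_of_card_ge (Subgroup.le_normalizer (H := D)) (not_lt.1 hge)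
      exact huD (this ▸ hND ▸ Subgroup.mem_sup_right (Subgroup.mem_zpowers u))
    have h1 : u ∈ Subgroup.normalizer (D : Set G) :=
      hND ▸ Subgroup.mem_sup_right (Subgroup.mem_zpowers u)
    have hidx2 : (D.subgroupOf (Subgroup.normalizer (D : Set G))).index ∣ q := by
      have e := Subgroup.card_mul_index (D.subgroupOf (Subgroup.normalizer (D : Set G)))
      rw [Nat.card_congr (Subgroup.subgroupOfEquivOfLe Subgroup.le_normalizer).toEquiv] at e
      have h2 := Subgroup.card_dvd_of_le hle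
      rw [hcardN, ← e, mul_comm q] at h2
      exact Nat.dvd_of_mul_dvd_mul_left (by omega) h2
    haveI : (D.subgroupOf (Subgroup.normalizer (D : Set G))).Normal := Subgroup.normal_in_normalizer
    have h3 := Subgroup.pow_index_mem (D.subgroupOf (Subgroup.normalizer (D : Set G))) ⟨u, h1⟩
    obtain ⟨k, hk⟩ : Odd ((D.subgroupOf (Subgroup.normalizer (D : Set G))).index) :=
      Odd.of_dvd_nat h.odd_q hidx2
    rw [Subgroup.mem_subgroupOf, hk] at h3
    simp only [Subgroup.coe_pow] at h3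
    rw [pow_add, pow_mul, pow_two, mul_self hu2, one_pow, one_mul, pow_one] at h3
    exact huD h3
  set y₀ : G ⧸ N := (u : G ⧸ N)
  have hy₀ : y₀ ≠ x₀ := fun e => huN (by
    have := QuotientGroup.eq.1 e
    simpa using this)
  have hDy₀ : ∀ d ∈ D, d • y₀ = y₀ := fun d hd => by
    rw [hfixconj, show u⁻¹ * d * u = u * d * u⁻¹ by rw [inv_eq hu2], hinv d hd]
    exact hDN (D.inv_mem hd)
  have htwo : ∀ v : G, v • x₀ = x₀ → v • y₀ = y₀ → v ∈ D := by
    intro v hvx hvy
    have hv : v ∈ (↑(Q ⊔ D) : Set G) := hN ▸ (hfixN v).2 hvx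
    rw [Subgroup.coe_mul_of_right_le_normalizer_left Q D hDN] at hv
    obtain ⟨w, hw, d, hd, rfl⟩ := hv
    rw [mul_smul, hDy₀ d hd] at hvy
    by_contra hne
    exact hy₀ (hTI w hw (fun e => hne (by simpa [e] using hd)) y₀ hvy)
  -- no element fixes three points
  have hthree : ∀ v : G, v ≠ 1 → v • x₀ = x₀ → v • y₀ = y₀ → ∀ z : G ⧸ N, v • z = z → z = x₀ ∨ z = y₀ := by
    intro v hv1 hvx hvy z hvz
    by_contra hno
    push Not at hno
    have hvD := htwo v hvx hvy
    obtain ⟨⟨w, hw⟩, hwz, -⟩ := hreg y₀ z hy₀ hno.1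
    change w • y₀ = z at hwz
    have hv' : w⁻¹ * v * w ∈ D := htwo _
      (by rw [mul_smul, mul_smul, (hfixN w).1 (hQN hw), hvx, (hfixN _).1 (N.inv_mem (hQN hw))])
      (by rw [mul_smul, mul_smul, hwz, hvz, ← hwz, inv_smul_smul])
    have hvN : v ∈ Subgroup.normalizer (Q : Set G) := (hfixN v).2 hvx
    have hm : v⁻¹ * (w⁻¹ * v * w) ∈ Q ⊓ D := by
      refine ⟨?_, D.mul_mem (D.inv_mem hvD) hv'⟩
      rw [show v⁻¹ * (w⁻¹ * v * w) = v⁻¹ * w⁻¹ * v⁻¹⁻¹ * w by group]
      exact Q.mul_mem ((Subgroup.mem_normalizer_iff.1 (Subgroup.inv_mem _ hvN) _).1 (Q.inv_mem hw)) hw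
    rw [hQD, Subgroup.mem_bot, inv_mul_eq_one] at hm
    have hw1 : w ≠ 1 := fun e => hno.2 (by rw [← hwz, e, one_smul])
    have hvQ : v ∈ Q := by
      rw [← hcc w hw hw1, Subgroup.mem_centralizer_singleton_iff]
      calc v * w = w * (w⁻¹ * v * w) := by group
        _ = w * v := by rw [← hm]
    exact hv1 (Subgroup.mem_bot.1 (hQD ▸ ⟨hvQ, hvD⟩))
  have hnop : ∀ (M : Subgroup G) [M.Normal] (r : ℕ), r.Prime → IsPGroup r M → M = ⊥ :=
    fun M _ r hr hM => h.not_normal_pgroup M hr hM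
  -- faithfulness
  have hfaith : FaithfulSMul G (G ⧸ N) := by
    refine ⟨fun {v w} hvw => ?_⟩
    have hk : N.normalCore = ⊥ := by
      have hle : N.normalCore ≤ N := Subgroup.normalCore_le N
      have hKQ : N.normalCore ⊓ Q = ⊥ := by
        rw [Subgroup.eq_bot_iff_forall]
        rintro v ⟨hvK, hvQ⟩
        by_contra hv1
        apply hy₀
        refine hTI v hvQ hv1 y₀ ?_
        rw [hfixconj]
        apply hle
        rw [show u⁻¹ * v * u = u⁻¹ * v * u⁻¹⁻¹ by group]
        exact (Subgroup.normalCore_normal N).conj_mem v hvK u⁻¹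
      rw [Subgroup.eq_bot_iff_forall]
      intro z hz
      have hz' : z ∈ Q := by
        have hQne : Q ≠ ⊥ := fun e => by rw [e, Subgroup.card_bot] at hQ; omega
        obtain ⟨⟨v, hv⟩, hv'⟩ := Subgroup.ne_bot_iff_exists_ne_one.1 hQne
        have hv1 : v ≠ 1 := fun e => hv' (Subtype.ext e)
        rw [← hcc v hv hv1, Subgroup.mem_centralizer_singleton_iff]
        have hc : z * v * z⁻¹ * v⁻¹ ∈ N.normalCore ⊓ Q := by
          constructor
          · rw [show z * v * z⁻¹ * v⁻¹ = z * (v * z⁻¹ * v⁻¹) by group]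
            exact mul_mem hz ((Subgroup.normalCore_normal N).conj_mem _ (inv_mem hz) v)
          · exact Q.mul_mem ((Subgroup.mem_normalizer_iff.1 (hle hz) v).1 hv) (Q.inv_mem hv)
        rw [hKQ, Subgroup.mem_bot, mul_inv_eq_one, mul_inv_eq_iff_eq_mul] at hc
        exact hc
      exact Subgroup.mem_bot.1 (hKQ ▸ ⟨hz, hz'⟩)
    have : v⁻¹ * w ∈ N.normalCore := by
      rw [Subgroup.normalCore_eq_ker, MonoidHom.mem_ker]
      refine Equiv.ext fun y => ?_
      change (v⁻¹ * w) • y = y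
      rw [mul_smul, ← hvw y, inv_smul_smul]
    rw [hk, Subgroup.mem_bot, inv_mul_eq_one] at this
    exact this
  -- the Zassenhaus group
  have hZ : Cfsg.IsZassenhausGroup G (G ⧸ N) := by
    refine ⟨hfaith, h2t, ?_, ?_, ?_⟩
    · intro v α β γ hαβ hβγ hαγ hα hβ hγ
      by_contra hv1
      obtain ⟨k, hk1, hk2⟩ := MulAction.is_two_pretransitive_iff.1 h2t hαβ hy₀.symm
      have hfixk : ∀ z : G ⧸ N, v • z = z → (k * v * k⁻¹) • (k • z) = k • z := fun z hz => by
        rw [mul_smul, mul_smul, inv_smul_smul, hz]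
      have hv1' : k * v * k⁻¹ ≠ 1 := fun e => hv1 (conj_eq_one_iff.1 e)
      rcases hthree _ hv1' (by have := hfixk α hα; rwa [hk1] at this)
        (by have := hfixk β hβ; rwa [hk2] at this) (k • γ) (hfixk γ hγ) with e | e
      · exact hαγ (smul_left_cancel k (hk1.trans e.symm))
      · exact hβγ (smul_left_cancel k (hk2.trans e.symm))
    · obtain ⟨⟨d, hd⟩, hd1⟩ := Subgroup.ne_bot_iff_exists_ne_one.1 hDne
      exact ⟨d, fun e => hd1 (Subtype.ext e), x₀, y₀, hy₀.symm, (hfixN d).1 (hDN hd), hDy₀ d hd⟩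
    · intro M hM htr
      by_contra hno
      push Not at hno
      haveI := htr
      obtain ⟨⟨n₀, hn₀⟩, hn₀x⟩ := htr.exists_smul_eq x₀ y₀
      change n₀ • x₀ = y₀ at hn₀x
      have hn₀1 : n₀ ≠ 1 := fun e => hy₀ (by rw [← hn₀x, e, one_smul])
      obtain ⟨r, hr, hrn⟩ := Nat.exists_prime_and_dvd (n := orderOf n₀)
        (fun e => hn₀1 (orderOf_eq_one_iff.1 e))
      have hsem : ∀ z ∈ M, z • x₀ = x₀ → z = 1 := fun z hz hzx => by
        have : (⟨z, hz⟩ : M) ∈ MulAction.stabilizer M x₀ := hzx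
        have h0 : (⟨z, hz⟩ : M) = 1 := (Subgroup.eq_bot_iff_forall _).1 (hno x₀) _ this
        exact congrArg Subtype.val h0
      have hords : ∀ z ∈ M, z ≠ 1 → orderOf z = orderOf n₀ := by
        intro z hz hz1
        have hzx : z • x₀ ≠ x₀ := fun e => hz1 (hsem z hz e)
        obtain ⟨⟨v, hv⟩, hvz, -⟩ := hreg y₀ (z • x₀) hy₀ hzx
        change v • y₀ = z • x₀ at hvz
        have e : z⁻¹ * (v * n₀ * v⁻¹) = 1 := hsem _ (M.mul_mem (M.inv_mem hz) (hM.conj_mem n₀ hn₀ v)) (by
          rw [mul_smul, mul_smul, mul_smul, (hfixN _).1 (N.inv_mem (hQN hv)), hn₀x, hvz, inv_smul_smul])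
        rw [inv_mul_eq_one.1 e, orderOf_conj]
      have hn₀r : orderOf n₀ = r := by
        obtain ⟨i, hi⟩ := hrn
        have hi0 : i ≠ 0 := fun e => (orderOf_pos n₀).ne' (by rw [hi, e, mul_zero])
        have e1 : orderOf (n₀ ^ i) = r := by
          rw [orderOf_pow_of_dvd hi0 ⟨r, by rw [hi, mul_comm]⟩, hi,
            Nat.mul_div_cancel _ (Nat.pos_of_ne_zero hi0)]
        rw [← hords _ (M.pow_mem hn₀ i) (fun e => hr.one_lt.ne (by rw [← e1, e, orderOf_one])), e1]
      have hMp : IsPGroup r M := fun z => by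
        refine ⟨1, ?_⟩
        by_cases hz : (z : G) = 1
        · rw [show z = 1 from Subtype.ext hz, one_pow]
        · refine Subtype.ext ?_
          rw [pow_one, Subgroup.coe_pow, ← hn₀r, ← hords _ z.2 hz, pow_orderOf_eq_one]
          rfl
      haveI := hM
      have := hnop M r hr hMp
      rw [this, Subgroup.mem_bot] at hn₀
      exact hn₀1 hn₀
  rcases Cfsg.Agent.S0731.result hZ x₀ Q (hstab.symm ▸ hQN)
      (by rw [hstab]; exact Subgroup.normal_in_normalizer)
      ⟨⟨fun v w => Subtype.ext (hab _ v.2 _ w.2)⟩⟩ hreg with ⟨h3, hst⟩ | ⟨K, i1, i2, hK, ⟨e⟩⟩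
  · exfalso
    haveI : Fintype (G ⧸ N) := Fintype.ofFinite _
    obtain ⟨t₀⟩ : Nonempty (Fin 3 ↪ G ⧸ N) := Function.Embedding.nonempty_of_card_le (by
      rw [Fintype.card_fin, ← Nat.card_eq_fintype_card, hindex]; omega)
    haveI := h3
    have hc := MulAction.index_stabilizer_of_transitive G t₀
    rw [hst, Subgroup.index_bot, Nat.card_eq_fintype_card (α := Fin 3 ↪ G ⧸ N),
      Fintype.card_embedding_eq, Fintype.card_fin, ← Nat.card_eq_fintype_card, hindex, h.card] at hc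
    rw [show Nat.descFactorial (q + 1) 3 = (q - 1) * q * (q + 1) by
      simp [Nat.descFactorial_succ]; ring] at hc
    have e2 : (q - 1) * q * (q + 1) = 2 * (2 * q * a * b) := by
      calc (q - 1) * q * (q + 1) = q * ((q + 1) * (q - 1)) := by ring
        _ = _ := by rw [hqab]; ring
    have := Nat.card_pos (α := G)
    rw [h.card] at this
    omega
  · refine ⟨K, i1, i2, ?_, ⟨e⟩⟩
    have hodd : Odd (Fintype.card K) := by
      rw [← Nat.not_even_iff_odd]
      intro he
      exact hK (FiniteField.even_card_iff_char_two.2 (Nat.even_iff.1 he))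
    have hg := CfsgLib.Perm.ZGroup.card_psl2_gcd (F := K)
    obtain ⟨m, hm⟩ := hodd
    rw [← Nat.card_congr e.toEquiv, h.card, hm, show 2 * m + 1 - 1 = 2 * m by omega,
      Nat.gcd_eq_left (dvd_mul_right 2 m)] at hg
    rw [hm]
    have hkey : q * ((q + 1) * (q - 1)) = (2 * m + 1) * ((2 * m + 1 + 1) * (2 * m + 1 - 1)) := by
      rw [hqab, show 2 * m + 1 - 1 = 2 * m by omega, mul_comm (2 * m + 1 + 1)]
      linarith
    have hmono : ∀ i j : ℕ, 1 ≤ i → i < j → i * ((i + 1) * (i - 1)) < j * ((j + 1) * (j - 1)) :=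
      fun i j _ hij => Nat.mul_lt_mul_of_lt_of_le hij
        (Nat.mul_le_mul (by omega) (by omega)) (by
          apply Nat.mul_pos (by omega); omega)
    rcases Nat.lt_trichotomy (2 * m + 1) q with hlt | heq | hgt
    · exact absurd hkey (ne_of_gt (hmono _ _ (by omega) hlt))
    · exact heq
    · exact absurd hkey (ne_of_lt (hmono _ _ (by omega) hgt))

theorem recognise.{u} {G : Type u} [Group G] [Finite G] {p f q a b : ℕ} (h : Spec G p f q a b) :
    ∃ (K : Type) (_ : Field K) (_ : Fintype K), Fintype.card K = q ∧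
      Nonempty (G ≃* Matrix.ProjectiveSpecialLinearGroup (Fin 2) K) := by
  obtain ⟨x, t, s, g, c⟩ := h.exists_cfg
  rcases c.trichotomy with ⟨hc, ho, h2a⟩ | hσ | ⟨hσ, h8, h4⟩
  · exact (c.abelian_false hc ho h2a).elim
  · obtain ⟨Q, D, h1, h2, h3, h4, h5, h6, h7⟩ := c.inverted_conclusion hσ (c.inverted hσ)
    obtain ⟨K, i1, i2, hK, ⟨e⟩⟩ :=
      recognise_of_bsw (h.of_equiv Subgroup.topEquiv) Q D h1 h2 h3 h4 h5 h6 h7
    exact ⟨K, i1, i2, hK, ⟨Subgroup.topEquiv.symm.trans e⟩⟩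
  · exact (c.semidihedral_false hσ h8 h4).elim

end CfsgLib.Characterizations.PSL2Spectrum
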